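import Groth.Agent.CalgC.DimFT
import Groth.Agent.Sga3B.RG.Nullst
import Mathlib.RingTheory.Polynomial.Eisenstein.Basic
import Mathlib.RingTheory.AdjoinRoot
import Mathlib.RingTheory.Localization.Away.Basic
import Mathlib.RingTheory.Localization.Integral
import Mathlib.RingTheory.Localization.InvSubmonoid

/-!
# The curves `v ^ d = f(t)`, `v ≠ 0`

* `K90.CyAlg.irreducible_poly`: `v ^ d - f(t)` is irreducible if `f` has a simple root.
* `K90.CyAlg.Cv d f = (Ω[t][v] / (v ^ d - f(t)))[1/v]`: a domain of dimension one, of finite type.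
-/

set_option autoImplicit false

open Polynomial

universe u

namespace K90.CyAlg

variable {Ω : Type u} [Field Ω]

/-- The polynomial `v ^ d - f(t)`. -/
noncomputable abbrev poly (d : ℕ) (f : Ω[X]) : (Ω[X])[X] := X ^ d - C f

theorem monic_poly {d : ℕ} (hd : d ≠ 0) (f : Ω[X]) : (poly d f).Monic := monic_X_pow_sub_C f hd

theorem natDegree_poly (d : ℕ) (f : Ω[X]) : (poly d f).natDegree = d := natDegree_X_pow_sub_C

theorem irreducible_poly {d : ℕ} (hd : d ≠ 0) {f : Ω[X]} {a : Ω} (ha : f.eval a = 0)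
    (ha' : f.derivative.eval a ≠ 0) : Irreducible (poly d f) := by
  have hprime : (Ideal.span {(X - C a : Ω[X])}).IsPrime :=
    (Ideal.span_singleton_prime (X_sub_C_ne_zero a)).2 (prime_X_sub_C a)
  have hfP : f ∈ Ideal.span {(X - C a : Ω[X])} :=
    Ideal.mem_span_singleton.2 (dvd_iff_isRoot.2 ha)
  have hE : (poly d f).IsEisensteinAt (Ideal.span {(X - C a : Ω[X])}) := by
    constructor
    · rw [(monic_poly hd f).leadingCoeff]
      exact fun h => hprime.ne_top ((Ideal.eq_top_iff_one _).2 h)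
    · intro n hn
      rw [natDegree_poly] at hn
      rw [poly, coeff_sub, coeff_X_pow, if_neg hn.ne, zero_sub, coeff_C]
      split_ifs
      · exact neg_mem hfP
      · rw [neg_zero]; exact zero_mem _
    · rw [poly, coeff_sub, coeff_X_pow, if_neg (Ne.symm hd), zero_sub, coeff_C, if_pos rfl]
      intro h
      have h2 : f ∈ Ideal.span {(X - C a : Ω[X])} ^ 2 := by simpa using neg_mem h
      rw [Ideal.span_singleton_pow, Ideal.mem_span_singleton] at h2
      obtain ⟨q, hq⟩ := h2
      apply ha'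
      rw [hq]
      simp [derivative_pow]
  exact hE.irreducible hprime (monic_poly hd f).isPrimitive (by rw [natDegree_poly]; omega)

/-- `Ω[t][v] / (v ^ d - f(t))`. -/
abbrev Bv (d : ℕ) (f : Ω[X]) : Type u := AdjoinRoot (poly d f)

/-- `Ω[t][v, 1/v] / (v ^ d - f(t))`. -/
abbrev Cv (d : ℕ) (f : Ω[X]) : Type u := Localization.Away (AdjoinRoot.root (poly d f))

theorem isDomain_Bv {d : ℕ} (hd : d ≠ 0) {f : Ω[X]} {a : Ω} (ha : f.eval a = 0)
    (ha' : f.derivative.eval a ≠ 0) : IsDomain (Bv d f) :=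
  AdjoinRoot.isDomain_of_prime (irreducible_poly hd ha ha').prime

theorem finite_Bv {d : ℕ} (hd : d ≠ 0) (f : Ω[X]) : Module.Finite Ω[X] (Bv d f) :=
  (monic_poly hd f).finite_adjoinRoot

theorem injective_of {d : ℕ} (hd : d ≠ 0) (f : Ω[X]) : Function.Injective (algebraMap Ω[X] (Bv d f)) := by
  refine AdjoinRoot.of.injective_of_degree_ne_zero ?_
  rw [degree_eq_natDegree (monic_poly hd f).ne_zero, natDegree_poly]
  exact_mod_cast hd

theorem root_pow (d : ℕ) (f : Ω[X]) : (AdjoinRoot.root (poly d f)) ^ d = AdjoinRoot.of (poly d f) f := by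
  have h := AdjoinRoot.eval₂_root (poly d f)
  rw [poly, eval₂_sub, eval₂_X_pow, eval₂_C, sub_eq_zero] at h
  exact h

theorem root_ne_zero {d : ℕ} (hd : d ≠ 0) {f : Ω[X]} (hf : f ≠ 0) : AdjoinRoot.root (poly d f) ≠ 0 := by
  intro h
  have h1 := root_pow d f
  rw [h, zero_pow hd] at h1
  exact hf (injective_of hd f (by rw [map_zero]; exact h1.symm))

theorem finiteType_Bv {d : ℕ} (hd : d ≠ 0) (f : Ω[X]) : Algebra.FiniteType Ω (Bv d f) := by
  have := finite_Bv hd f
  exact Algebra.FiniteType.trans (S := Ω[X]) inferInstance inferInstance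

theorem finiteType_Cv {d : ℕ} (hd : d ≠ 0) (f : Ω[X]) : Algebra.FiniteType Ω (Cv d f) := by
  have := finiteType_Bv hd f
  have h2 : Algebra.FiniteType (Bv d f) (Cv d f) :=
    IsLocalization.finiteType_of_monoid_fg (Submonoid.powers (AdjoinRoot.root (poly d f))) _
  exact Algebra.FiniteType.trans (S := Bv d f) inferInstance h2

theorem isDomain_Cv {d : ℕ} (hd : d ≠ 0) {f : Ω[X]} {a : Ω} (ha : f.eval a = 0)
    (ha' : f.derivative.eval a ≠ 0) : IsDomain (Cv d f) := by
  have := isDomain_Bv hd ha ha'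
  have hf : f ≠ 0 := by rintro rfl; simp at ha'
  exact IsLocalization.isDomain_localization
    (powers_le_nonZeroDivisors_of_noZeroDivisors (root_ne_zero hd hf))

theorem ringKrullDim_Cv {d : ℕ} (hd : d ≠ 0) {f : Ω[X]} {a : Ω} (ha : f.eval a = 0)
    (ha' : f.derivative.eval a ≠ 0) : ringKrullDim (Cv d f) = 1 := by
  have := isDomain_Bv hd ha ha'
  have := isDomain_Cv hd ha ha'
  have := finiteType_Cv hd f
  have := finite_Bv hd f
  have hf : f ≠ 0 := by rintro rfl; simp at ha'
  rw [Groth.Agent.CalgC.DimFT.ringKrullDim_eq_trdeg (k := Ω)]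
  have halg : Algebra.IsAlgebraic (Bv d f) (Cv d f) :=
    IsLocalization.isAlgebraic _ (Submonoid.powers (AdjoinRoot.root (poly d f)))
  have hle : Submonoid.powers (AdjoinRoot.root (poly d f)) ≤ nonZeroDivisors (Bv d f) :=
    powers_le_nonZeroDivisors_of_noZeroDivisors (root_ne_zero hd hf)
  have hinj : FaithfulSMul (Bv d f) (Cv d f) :=
    (faithfulSMul_iff_algebraMap_injective _ _).2 (IsLocalization.injective _ hle)
  have hinj2 : FaithfulSMul Ω[X] (Bv d f) :=
    (faithfulSMul_iff_algebraMap_injective _ _).2 (injective_of hd f)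
  have halg2 : Algebra.IsAlgebraic Ω[X] (Bv d f) := inferInstance
  have h1 := trdeg_add_eq (R := Ω) (S := Bv d f) (A := Cv d f)
  have h2 := trdeg_add_eq (R := Ω) (S := Ω[X]) (A := Bv d f)
  rw [trdeg_eq_zero (R := Bv d f) (A := Cv d f), add_zero] at h1
  rw [trdeg_eq_zero (R := Ω[X]) (A := Bv d f), add_zero] at h2
  rw [← h1, ← h2, Polynomial.trdeg_of_isDomain]
  simp

/-- The point of `Cv d f` with coordinates `t = x`, `v = y`. -/
noncomputable def pt {d : ℕ} {f : Ω[X]} (x y : Ω) (hy : y ≠ 0) (h : y ^ d = f.eval x) : Cv d f →+* Ω :=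
  IsLocalization.Away.lift (AdjoinRoot.root (poly d f))
    (g := AdjoinRoot.lift (evalRingHom x) y (by simp [h]))
    (by rw [AdjoinRoot.lift_root]; exact hy.isUnit)

theorem pt_of {d : ℕ} {f : Ω[X]} (x y : Ω) (hy : y ≠ 0) (h : y ^ d = f.eval x) (p : Ω[X]) :
    pt x y hy h (algebraMap (Bv d f) (Cv d f) (AdjoinRoot.of (poly d f) p)) = p.eval x := by
  rw [pt, IsLocalization.Away.lift_eq, AdjoinRoot.lift_of]
  rfl

theorem pt_root {d : ℕ} {f : Ω[X]} (x y : Ω) (hy : y ≠ 0) (h : y ^ d = f.eval x) :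
    pt x y hy h (algebraMap (Bv d f) (Cv d f) (AdjoinRoot.root (poly d f))) = y := by
  rw [pt, IsLocalization.Away.lift_eq, AdjoinRoot.lift_root]

end K90.CyAlg
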