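import Groth.Agent.Sga3B.RG.Nullst
import Groth.Prelude.Def_SGA7I
import Mathlib.AlgebraicGeometry.Pullbacks

/-!
# Generalities for the surface `F(x, y) = G(z, w)`

* `K90.CyGen.exists_fan`: the fibre product of two schemes over `S` as a product indexed by `Fin 2`.
* `K90.CyGen.denseRange_of_points`: a morphism to the spectrum of a finitely generated domain over an algebraically
  closed field with enough points in the image has dense image.
* `K90.CyGen.cO`: the base change of an affine open chart.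
-/

set_option autoImplicit false

universe u

open CategoryTheory CategoryTheory.Limits AlgebraicGeometry TensorProduct

namespace K90.CyGen

theorem exists_fan {S : Scheme.{u}} (C : Fin 2 → Scheme.{u}) (gC : ∀ i, C i ⟶ S) :
    ∃ (π : ∀ i, pullback (gC 0) (gC 1) ⟶ C i)
      (hπ : ∀ i, π i ≫ gC i = pullback.fst (gC 0) (gC 1) ≫ gC 0),
      Nonempty (IsLimit (Fan.mk (f := fun i => Over.mk (gC i)) (Over.mk (pullback.fst (gC 0) (gC 1) ≫ gC 0))
        fun i => Over.homMk (π i) (hπ i))) := by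
  refine ⟨fun i => match i with | 0 => pullback.fst (gC 0) (gC 1) | 1 => pullback.snd (gC 0) (gC 1),
    fun i => match i with | 0 => rfl | 1 => pullback.condition.symm, ⟨?_⟩⟩
  have hs : ∀ s : Fan fun i => Over.mk (gC i), (s.proj 0).left ≫ gC 0 = (s.proj 1).left ≫ gC 1 := fun s =>
    (Over.w (s.proj 0)).trans (Over.w (s.proj 1)).symm
  refine Fan.IsLimit.mk _ (fun s => Over.homMk (pullback.lift (s.proj 0).left (s.proj 1).left (hs s)) ?_) ?_ ?_
  · have h1 : pullback.lift (s.proj 0).left (s.proj 1).left (hs s) ≫ pullback.fst (gC 0) (gC 1) ≫ gC 0 =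
        (s.proj 0).left ≫ gC 0 := by rw [pullback.lift_fst_assoc]
    exact h1.trans (Over.w (s.proj 0))
  · intro s j
    apply Over.OverMorphism.ext
    match j with
    | 0 => exact pullback.lift_fst _ _ (hs s)
    | 1 => exact pullback.lift_snd _ _ (hs s)
  · intro s m hm
    apply Over.OverMorphism.ext
    apply pullback.hom_ext
    · refine Eq.trans ?_ (pullback.lift_fst _ _ (hs s)).symm
      exact congrArg (fun t => t.left) (hm 0)
    · refine Eq.trans ?_ (pullback.lift_snd _ _ (hs s)).symm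
      exact congrArg (fun t => t.left) (hm 1)

theorem denseRange_of_points {Ω : Type u} [Field Ω] [IsAlgClosed Ω] {R : Type u} [CommRing R] [Algebra Ω R]
    [Algebra.FiniteType Ω R] [IsDomain R] {P : Scheme.{u}} (ψ : P ⟶ Spec (CommRingCat.of R)) (q : R) (hq : q ≠ 0)
    (h : ∀ ε : R →ₐ[Ω] Ω, ε q ≠ 0 → ∃ ρ : Spec (CommRingCat.of Ω) ⟶ P,
      ρ ≫ ψ = Spec.map (CommRingCat.ofHom ε.toRingHom)) : DenseRange ψ := by
  rw [DenseRange, dense_iff_inter_open]
  intro V hV hne
  obtain ⟨x, hx⟩ := hne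
  obtain ⟨_, ⟨_, ⟨e, rfl⟩, rfl⟩, hxe, heV⟩ :=
    (PrimeSpectrum.isBasis_basic_opens (R := R)).exists_subset_of_mem_open hx hV
  have he : e ≠ 0 := by
    rintro rfl
    exact hxe (zero_mem _)
  obtain ⟨ε, hε⟩ := Groth.Agent.Sga3B.RG.exists_algHom_ne_zero (K := Ω) (mul_ne_zero he hq)
  rw [map_mul] at hε
  obtain ⟨ρ, hρ⟩ := h ε (right_ne_zero_of_mul hε)
  let pt : Spec (CommRingCat.of Ω) := IsLocalRing.closedPoint Ω
  refine ⟨ψ (ρ pt), heV ?_, ⟨_, rfl⟩⟩
  rw [← Scheme.Hom.comp_apply, hρ]
  change e ∉ Ideal.comap ε.toRingHom pt.asIdeal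
  rw [Ideal.mem_comap]
  intro h1
  have h2 : IsUnit (ε.toRingHom e) := (show ε e ≠ 0 from left_ne_zero_of_mul hε).isUnit
  exact pt.isPrime.ne_top (Ideal.eq_top_of_isUnit_mem _ h1 h2)

theorem denseRange_comp {X Y Z : Scheme.{u}} (f : X ⟶ Y) (g : Y ⟶ Z) (hf : DenseRange f) (hg : DenseRange g) :
    DenseRange (f ≫ g) := by
  have h1 := hg.comp hf g.continuous
  have h2 : (g ∘ f : X → Z) = (f ≫ g) := by
    funext x
    exact (Scheme.Hom.comp_apply f g x).symm
  rwa [h2] at h1

theorem denseRange_topι (X : Scheme.{u}) : DenseRange (Scheme.Opens.ι (⊤ : X.Opens)) := by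
  refine Function.Surjective.denseRange fun x => ?_
  have h2 : x ∈ Set.range (Scheme.Opens.ι (⊤ : X.Opens)) := by
    rw [Scheme.Opens.range_ι]
    trivial
  exact h2

section Chart

variable {k : Type u} (Ω : Type u) [Field k] [Field Ω] [Algebra k Ω] {A : Type u} [CommRing A] [Algebra k A]
  {X : Scheme.{u}} (p : X ⟶ Spec (CommRingCat.of k)) (c : Spec (CommRingCat.of A) ⟶ X)
  (hc : c ≫ p = Spec.map (CommRingCat.ofHom (algebraMap k A)))

/-- The base change of an affine chart. -/
noncomputable def cO : Spec (CommRingCat.of (Ω ⊗[k] A)) ⟶ SGA7.bcField Ω p :=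
  (pullbackSpecIso k Ω A).inv ≫ (pullbackSymmetry _ _).hom ≫
    pullback.map _ _ p (Spec.map (CommRingCat.ofHom (algebraMap k Ω))) c (𝟙 _) (𝟙 _)
      (by rw [Category.comp_id, hc]) (by rw [Category.comp_id, Category.id_comp])

theorem cO_snd : cO Ω p c hc ≫ pullback.snd p (Spec.map (CommRingCat.ofHom (algebraMap k Ω))) =
    Spec.map (CommRingCat.ofHom (algebraMap Ω (Ω ⊗[k] A))) := by
  rw [cO, Category.assoc, Category.assoc, pullback.map, pullback.lift_snd, Category.comp_id,
    pullbackSymmetry_hom_comp_snd, pullbackSpecIso_inv_fst']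

theorem isOpenImmersion_cO [IsOpenImmersion c] : IsOpenImmersion (cO Ω p c hc) := by
  have h1 : IsOpenImmersion (pullback.map _ _ p (Spec.map (CommRingCat.ofHom (algebraMap k Ω))) c (𝟙 _) (𝟙 _)
      (by rw [Category.comp_id, hc]) (by rw [Category.comp_id, Category.id_comp])) := by
    exact MorphismProperty.pullbackMap (P := @IsOpenImmersion) inferInstance inferInstance hc.symm
      (by rw [Category.id_comp])
  rw [cO]
  infer_instance

include hc in
theorem isDomain_of_isIntegral [IsOpenImmersion c] [IsIntegral (SGA7.bcField Ω p)] [Nontrivial (Ω ⊗[k] A)] :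
    IsDomain (Ω ⊗[k] A) := by
  have := isOpenImmersion_cO Ω p c hc
  have : IsIntegral (Spec (CommRingCat.of (Ω ⊗[k] A))) := isIntegral_of_isOpenImmersion (cO Ω p c hc)
  exact (affine_isIntegral_iff _).1 this

theorem denseRange_cO [IsOpenImmersion c] [IsIntegral (SGA7.bcField Ω p)] [Nontrivial (Ω ⊗[k] A)] :
    DenseRange (cO Ω p c hc) := by
  have := isOpenImmersion_cO Ω p c hc
  have h1 : Nonempty (Spec (CommRingCat.of (Ω ⊗[k] A))) := inferInstance
  exact (cO Ω p c hc).isOpenEmbedding.isOpen_range.dense (Set.range_nonempty _)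

end Chart

end K90.CyGen
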