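import Groth.Agent.Dix.K90.CyRing
import Mathlib.FieldTheory.IsAlgClosed.Basic

/-!
# Points of the product of the curves `v ^ d = f(t)`, `r ^ d = g(s)` over the points of the surface
-/

set_option autoImplicit false

universe u

open TensorProduct

namespace K90.CyPts

open K90.CyAlg K90.CyRing

variable {k Ω : Type u} [Field k] [Field Ω] [Algebra k Ω] {d : ℕ} {f g : Polynomial k}

/-- The curve ring of `f` over `Ω`. -/
abbrev CO (Ω : Type u) [Field Ω] [Algebra k Ω] (d : ℕ) (f : Polynomial k) : Type u := Cv d (f.map (algebraMap k Ω))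

/-- The coordinate `t`. -/
noncomputable def tt (Ω : Type u) [Field Ω] [Algebra k Ω] (d : ℕ) (f : Polynomial k) : CO Ω d f :=
  algebraMap (Bv d (f.map (algebraMap k Ω))) _ (AdjoinRoot.of _ Polynomial.X)

/-- The coordinate `v`. -/
noncomputable def vv (Ω : Type u) [Field Ω] [Algebra k Ω] (d : ℕ) (f : Polynomial k) : CO Ω d f :=
  algebraMap (Bv d (f.map (algebraMap k Ω))) _ (AdjoinRoot.root _)

/-- The inverse of `v`. -/
noncomputable def vi (Ω : Type u) [Field Ω] [Algebra k Ω] (d : ℕ) (f : Polynomial k) : CO Ω d f :=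
  IsLocalization.Away.invSelf (AdjoinRoot.root (poly d (f.map (algebraMap k Ω))))

theorem vv_mul_vi : vv Ω d f * vi Ω d f = 1 := IsLocalization.Away.mul_invSelf _

theorem vv_pow : vv Ω d f ^ d = f.eval₂ ((algebraMap Ω (CO Ω d f)).comp (algebraMap k Ω)) (tt Ω d f) := by
  rw [vv, ← map_pow, root_pow]
  exact Polynomial.hom_eval₂ f (Polynomial.C.comp (algebraMap k Ω))
    ((algebraMap (Bv d (f.map (algebraMap k Ω))) (CO Ω d f)).comp (AdjoinRoot.of _)) Polynomial.X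

/-- The product of the two curves. -/
abbrev TT (Ω : Type u) [Field Ω] [Algebra k Ω] (d : ℕ) (f g : Polynomial k) : Type u := CO Ω d f ⊗[Ω] CO Ω d g

theorem rel : (vv Ω d f ⊗ₜ[Ω] vi Ω d g : TT Ω d f g) ^ d *
    g.eval₂ ((algebraMap Ω (TT Ω d f g)).comp (algebraMap k Ω)) (1 ⊗ₜ tt Ω d g) =
    f.eval₂ ((algebraMap Ω (TT Ω d f g)).comp (algebraMap k Ω)) (tt Ω d f ⊗ₜ 1) := by
  have h1 : g.eval₂ ((algebraMap Ω (TT Ω d f g)).comp (algebraMap k Ω)) (1 ⊗ₜ tt Ω d g) =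
      (1 ⊗ₜ (vv Ω d g ^ d) : TT Ω d f g) := by
    rw [vv_pow]
    have h := Polynomial.hom_eval₂ g ((algebraMap Ω (CO Ω d g)).comp (algebraMap k Ω))
      (Algebra.TensorProduct.includeRight : CO Ω d g →ₐ[Ω] TT Ω d f g).toRingHom (tt Ω d g)
    refine Eq.trans ?_ h.symm
    congr 1
    apply RingHom.ext
    intro x
    exact ((Algebra.TensorProduct.includeRight : CO Ω d g →ₐ[Ω] TT Ω d f g).commutes _).symm
  have h2 : f.eval₂ ((algebraMap Ω (TT Ω d f g)).comp (algebraMap k Ω)) (tt Ω d f ⊗ₜ 1) =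
      ((vv Ω d f ^ d) ⊗ₜ 1 : TT Ω d f g) := by
    rw [vv_pow]
    have h := Polynomial.hom_eval₂ f ((algebraMap Ω (CO Ω d f)).comp (algebraMap k Ω))
      (Algebra.TensorProduct.includeLeft : CO Ω d f →ₐ[Ω] TT Ω d f g).toRingHom (tt Ω d f)
    refine Eq.trans ?_ h.symm
    congr 1
  rw [h1, h2, Algebra.TensorProduct.tmul_pow, Algebra.TensorProduct.tmul_mul_tmul, mul_one, ← mul_pow, mul_comm (vi Ω d g),
    vv_mul_vi, one_pow]

variable (hf : f.natDegree = d) (hg : g.natDegree = d)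

/-- The map of the chart ring to the product of the two curves, over `k`. -/
noncomputable def bb0 (Ω : Type u) [Field Ω] [Algebra k Ω] (hf : f.natDegree = d) (hg : g.natDegree = d) :
    Ch d f g →+* TT Ω d f g :=
  beta0 ((algebraMap Ω (TT Ω d f g)).comp (algebraMap k Ω)) (tt Ω d f ⊗ₜ 1) (1 ⊗ₜ tt Ω d g)
    (vv Ω d f ⊗ₜ vi Ω d g) hf hg rel

theorem bb0_alg (a : k) : bb0 Ω hf hg (algebraMap k (Ch d f g) a) =
    algebraMap Ω (TT Ω d f g) (algebraMap k Ω a) :=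
  beta0_C _ hf hg _ _ _ rel a

/-- The map of the chart ring to the product of the two curves. -/
noncomputable def bb (Ω : Type u) [Field Ω] [Algebra k Ω] (hf : f.natDegree = d) (hg : g.natDegree = d) :
    Ω ⊗[k] Ch d f g →ₐ[Ω] TT Ω d f g :=
  ext (bb0 Ω hf hg) (bb0_alg hf hg)

theorem bb_X (j : Fin 3) : bb Ω hf hg (1 ⊗ₜ Ideal.Quotient.mk _ (MvPolynomial.X j)) =
    (![tt Ω d f ⊗ₜ 1, (1 ⊗ₜ tt Ω d g) * (vv Ω d f ⊗ₜ vi Ω d g), vv Ω d f ⊗ₜ vi Ω d g] : Fin 3 → TT Ω d f g) j := by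
  rw [bb, ext_tmul, map_one, one_mul, bb0, beta0_X]

/-- The point of the curve over `Ω`. -/
noncomputable def ptA (x y : Ω) (hy : y ≠ 0) (h : y ^ d = f.eval₂ (algebraMap k Ω) x) : CO Ω d f →ₐ[Ω] Ω :=
  { pt x y hy (by rw [Polynomial.eval_map, h]) with
    commutes' := fun ω => by
      have h1 := pt_of (f := f.map (algebraMap k Ω)) x y hy (by rw [Polynomial.eval_map, h]) (Polynomial.C ω)
      rw [Polynomial.eval_C] at h1
      exact h1 }

theorem ptA_tt (x y : Ω) (hy : y ≠ 0) (h : y ^ d = f.eval₂ (algebraMap k Ω) x) :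
    ptA x y hy h (tt Ω d f) = x := by
  have h1 := pt_of (f := f.map (algebraMap k Ω)) x y hy (by rw [Polynomial.eval_map, h]) Polynomial.X
  rw [Polynomial.eval_X] at h1
  exact h1

theorem ptA_vv (x y : Ω) (hy : y ≠ 0) (h : y ^ d = f.eval₂ (algebraMap k Ω) x) :
    ptA x y hy h (vv Ω d f) = y :=
  pt_root (f := f.map (algebraMap k Ω)) x y hy (by rw [Polynomial.eval_map, h])

theorem ptA_vi (x y : Ω) (hy : y ≠ 0) (h : y ^ d = f.eval₂ (algebraMap k Ω) x) :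
    ptA x y hy h (vi Ω d f) = y⁻¹ := by
  have h1 := congrArg (ptA x y hy h) (vv_mul_vi (Ω := Ω) (d := d) (f := f))
  rw [map_mul, ptA_vv, map_one] at h1
  exact eq_inv_of_mul_eq_one_right h1

/-- The function `w f(x)` on the chart. -/
noncomputable def qq (Ω : Type u) [Field Ω] [Algebra k Ω] (d : ℕ) (f g : Polynomial k) : Ω ⊗[k] Ch d f g :=
  1 ⊗ₜ Ideal.Quotient.mk _ (MvPolynomial.X 2 * f.eval₂ MvPolynomial.C (MvPolynomial.X 0))

/-- The values of a point on polynomials. -/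
theorem hom_mk {T : Type u} [CommRing T] [Algebra Ω T] (ε : Ω ⊗[k] Ch d f g →ₐ[Ω] T) (P : MvPolynomial (Fin 3) k) :
    ε (1 ⊗ₜ Ideal.Quotient.mk _ P) = MvPolynomial.eval₂Hom ((algebraMap Ω T).comp (algebraMap k Ω))
      (fun j => ε (1 ⊗ₜ Ideal.Quotient.mk _ (MvPolynomial.X j))) P := by
  have h1 : (ε.toRingHom.comp (Algebra.TensorProduct.includeRight (R := k) (A := Ω) (B := Ch d f g)).toRingHom).comp
      (Ideal.Quotient.mk _) = MvPolynomial.eval₂Hom ((algebraMap Ω T).comp (algebraMap k Ω))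
      (fun j => ε (1 ⊗ₜ Ideal.Quotient.mk _ (MvPolynomial.X j))) := by
    refine MvPolynomial.ringHom_ext (fun a => ?_) fun j => ?_
    · rw [MvPolynomial.coe_eval₂Hom, MvPolynomial.eval₂_C]
      change ε (1 ⊗ₜ (algebraMap k (Ch d f g) a)) = algebraMap Ω T (algebraMap k Ω a)
      rw [← Algebra.TensorProduct.tmul_one_eq_one_tmul]
      exact ε.commutes _
    · rw [MvPolynomial.coe_eval₂Hom, MvPolynomial.eval₂_X]
      rfl
  exact RingHom.congr_fun h1 P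

theorem hom_eqn (hf : f.natDegree = d) (hg : g.natDegree = d) (ε : Ω ⊗[k] Ch d f g →ₐ[Ω] Ω) (s : Ω)
    (hs : ε (1 ⊗ₜ Ideal.Quotient.mk _ (MvPolynomial.X 1)) =
      s * ε (1 ⊗ₜ Ideal.Quotient.mk _ (MvPolynomial.X 2))) :
    ε (1 ⊗ₜ Ideal.Quotient.mk _ (MvPolynomial.X 2)) ^ d * g.eval₂ (algebraMap k Ω) s =
      f.eval₂ (algebraMap k Ω) (ε (1 ⊗ₜ Ideal.Quotient.mk _ (MvPolynomial.X 0))) := by
  have h1 : ε (1 ⊗ₜ Ideal.Quotient.mk (Ideal.span {eqn d f g}) (eqn d f g)) = 0 := by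
    rw [Ideal.Quotient.eq_zero_iff_mem.2 (Ideal.mem_span_singleton_self _), TensorProduct.tmul_zero, map_zero]
  rw [hom_mk, eval_eqn _ hf, sub_eq_zero, hs] at h1
  have h2 := sum_eq ((algebraMap Ω Ω).comp (algebraMap k Ω)) hg s
    (ε (1 ⊗ₜ Ideal.Quotient.mk (Ideal.span {eqn d f g}) (MvPolynomial.X 2)))
  exact h2.symm.trans h1.symm

theorem exists_point [IsAlgClosed Ω] (hd : d ≠ 0) (ε : Ω ⊗[k] Ch d f g →ₐ[Ω] Ω) (hε : ε (qq Ω d f g) ≠ 0) :
    ∃ ε' : TT Ω d f g →ₐ[Ω] Ω, ε'.comp (bb Ω hf hg) = ε := by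
  have hq : ε (qq Ω d f g) = ε (1 ⊗ₜ Ideal.Quotient.mk _ (MvPolynomial.X 2)) *
      f.eval₂ (algebraMap k Ω) (ε (1 ⊗ₜ Ideal.Quotient.mk _ (MvPolynomial.X 0))) := by
    rw [qq, hom_mk, map_mul, MvPolynomial.coe_eval₂Hom, MvPolynomial.eval₂_X]
    congr 1
    have h := Polynomial.hom_eval₂ f MvPolynomial.C (MvPolynomial.eval₂Hom ((algebraMap Ω Ω).comp (algebraMap k Ω))
      (fun j => ε (1 ⊗ₜ Ideal.Quotient.mk (Ideal.span {eqn d f g}) (MvPolynomial.X j)))) (MvPolynomial.X 0)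
    refine Eq.trans h ?_
    rw [MvPolynomial.coe_eval₂Hom, MvPolynomial.eval₂_X]
    congr 1
    apply RingHom.ext
    intro a
    simp
  rw [hq] at hε
  have hw := left_ne_zero_of_mul hε
  have hfx := right_ne_zero_of_mul hε
  obtain ⟨v, hv⟩ := IsAlgClosed.exists_pow_nat_eq (f.eval₂ (algebraMap k Ω)
    (ε (1 ⊗ₜ Ideal.Quotient.mk (Ideal.span {eqn d f g}) (MvPolynomial.X 0)))) (Nat.pos_of_ne_zero hd)
  have hv0 : v ≠ 0 := by
    rintro rfl
    rw [zero_pow hd] at hv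
    exact hfx hv.symm
  set w := ε (1 ⊗ₜ Ideal.Quotient.mk (Ideal.span {eqn d f g}) (MvPolynomial.X 2)) with hw'
  set z := ε (1 ⊗ₜ Ideal.Quotient.mk (Ideal.span {eqn d f g}) (MvPolynomial.X 1)) with hz'
  set x := ε (1 ⊗ₜ Ideal.Quotient.mk (Ideal.span {eqn d f g}) (MvPolynomial.X 0)) with hx'
  have hzw : z = z / w * w := (div_mul_cancel₀ z hw).symm
  have h1 := hom_eqn hf hg ε (z / w) hzw
  have h2 : (v / w) ^ d = g.eval₂ (algebraMap k Ω) (z / w) := by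
    rw [div_pow, hv, div_eq_iff (pow_ne_zero d hw), mul_comm]
    exact h1.symm
  have hr0 : v / w ≠ 0 := div_ne_zero hv0 hw
  refine ⟨Algebra.TensorProduct.lift (ptA x v hv0 hv) (ptA (z / w) (v / w) hr0 h2) fun _ _ => Commute.all _ _, ?_⟩
  apply hom_ext
  intro j
  rw [AlgHom.comp_apply, bb_X]
  match j with
  | 0 =>
    change Algebra.TensorProduct.lift _ _ _ (tt Ω d f ⊗ₜ 1) = _
    rw [Algebra.TensorProduct.lift_tmul, ptA_tt, map_one, mul_one]
  | 1 =>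
    change Algebra.TensorProduct.lift _ _ _ ((1 ⊗ₜ tt Ω d g) * (vv Ω d f ⊗ₜ vi Ω d g)) = _
    rw [map_mul, Algebra.TensorProduct.lift_tmul, Algebra.TensorProduct.lift_tmul, ptA_tt, ptA_vv, ptA_vi, map_one,
      one_mul, inv_div, mul_div_cancel₀ _ hv0]
    exact hzw.symm
  | 2 =>
    change Algebra.TensorProduct.lift _ _ _ (vv Ω d f ⊗ₜ vi Ω d g) = _
    rw [Algebra.TensorProduct.lift_tmul, ptA_vv, ptA_vi, inv_div, mul_div_cancel₀ _ hv0]

end K90.CyPts
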