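import Groth.Agent.Dix.K90.CyGen
import Groth.Agent.Dix.K90.CyPts
import Groth.Agent.Lefpen.H996.HypRange

/-!
# The surface `F(X, Y) = G(Z, W)` is dominated by the product of the curves `v ^ d = f(t)`, `r ^ d = g(s)`
-/

set_option autoImplicit false

universe u

open CategoryTheory CategoryTheory.Limits AlgebraicGeometry TensorProduct

namespace K90.CyMap

open K90.CyAlg K90.CyRing K90.CyPts K90.CyGen LefPen Groth.Agent.Sga5

variable {k : Type u} [Field k] {d : ℕ} {f g : Polynomial k}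

/-- The curves. -/
theorem good_CO (Ω : Type u) [Field Ω] [Algebra k Ω] [IsAlgClosed Ω] (hd : d ≠ 0) (hf : f.natDegree = d)
    (hfs : f.Separable) :
    IsIntegral (Spec (CommRingCat.of (CO Ω d f))) ∧
    IsSeparated (Spec.map (CommRingCat.ofHom (algebraMap Ω (CO Ω d f)))) ∧
    LocallyOfFiniteType (Spec.map (CommRingCat.ofHom (algebraMap Ω (CO Ω d f)))) ∧
    QuasiCompact (Spec.map (CommRingCat.ofHom (algebraMap Ω (CO Ω d f)))) ∧
    topologicalKrullDim ↥(Spec (CommRingCat.of (CO Ω d f))) = 1 := by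
  have hdeg : (f.map (algebraMap k Ω)).degree ≠ 0 := by
    rw [Polynomial.degree_map]
    intro h
    exact hd (hf ▸ Polynomial.natDegree_eq_zero_iff_degree_le_zero.2 h.le)
  obtain ⟨a, ha⟩ := IsAlgClosed.exists_root _ hdeg
  have ha' : (f.map (algebraMap k Ω)).derivative.eval a ≠ 0 := by
    have h1 := Polynomial.Separable.eval₂_derivative_ne_zero (RingHom.id Ω)
      (Polynomial.Separable.map (f := algebraMap k Ω) hfs) (x := a) (by rwa [Polynomial.eval₂_id])
    rwa [Polynomial.eval₂_id] at h1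
  have h1 := isDomain_Cv hd ha ha'
  have h2 := finiteType_Cv hd (f.map (algebraMap k Ω))
  refine ⟨inferInstance, inferInstance, ?_, inferInstance, ?_⟩
  · rw [HasRingHomProperty.Spec_iff (P := @LocallyOfFiniteType)]
    exact (RingHom.finiteType_algebraMap).2 h2
  · rw [← ringKrullDim_Cv hd ha ha']
    exact PrimeSpectrum.topologicalKrullDim_eq_ringKrullDim _

/-- There is a point of the chart with `w f(x) ≠ 0`. -/
theorem exists_hom (Ω : Type u) [Field Ω] [Algebra k Ω] [IsAlgClosed Ω] (hd : d ≠ 0) (hf : f.natDegree = d)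
    (hg : g.natDegree = d) : ∃ ε : Ω ⊗[k] Ch d f g →ₐ[Ω] Ω, ε (qq Ω d f g) ≠ 0 := by
  have hne : ∀ P : Polynomial k, P.natDegree = d → ∃ x : Ω, P.eval₂ (algebraMap k Ω) x ≠ 0 := by
    intro P hP
    have h0 : P.map (algebraMap k Ω) ≠ 0 := by
      intro h
      rw [Polynomial.map_eq_zero] at h
      rw [h, Polynomial.natDegree_zero] at hP
      exact hd hP.symm
    by_contra hcon
    push Not at hcon
    refine h0 (Polynomial.funext fun x => ?_)
    rw [Polynomial.eval_map, hcon, Polynomial.eval_zero]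
  obtain ⟨x, hx⟩ := hne f hf
  obtain ⟨s, hs⟩ := hne g hg
  obtain ⟨w, hw⟩ := IsAlgClosed.exists_pow_nat_eq (f.eval₂ (algebraMap k Ω) x / g.eval₂ (algebraMap k Ω) s)
    (Nat.pos_of_ne_zero hd)
  have hrel : w ^ d * g.eval₂ (algebraMap k Ω) s = f.eval₂ (algebraMap k Ω) x := by
    rw [hw, div_mul_cancel₀ _ hs]
  have hw0 : w ≠ 0 := by
    rintro rfl
    rw [zero_pow hd, zero_mul] at hrel
    exact hx hrel.symm
  have hb : ∀ a : k, beta0 (algebraMap k Ω) x s w hf hg hrel (algebraMap k (Ch d f g) a) =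
      algebraMap Ω Ω (algebraMap k Ω a) := fun a => beta0_C _ hf hg _ _ _ hrel a
  refine ⟨ext (beta0 (algebraMap k Ω) x s w hf hg hrel) hb, ?_⟩
  have h1 : ∀ P : MvPolynomial (Fin 3) k,
      beta0 (algebraMap k Ω) x s w hf hg hrel (Ideal.Quotient.mk _ P) =
        MvPolynomial.eval₂Hom (algebraMap k Ω) ![x, s * w, w] P := fun P => Ideal.Quotient.lift_mk _ _ _
  rw [qq, ext_tmul, map_one, one_mul, h1, map_mul, MvPolynomial.coe_eval₂Hom, MvPolynomial.eval₂_X]
  refine mul_ne_zero hw0 ?_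
  have h := Polynomial.hom_eval₂ f MvPolynomial.C (MvPolynomial.eval₂Hom (algebraMap k Ω)
    (![x, s * w, w] : Fin 3 → Ω)) (MvPolynomial.X 0)
  rw [MvPolynomial.coe_eval₂Hom, MvPolynomial.eval₂_X] at h
  have h3 : (MvPolynomial.eval₂Hom (algebraMap k Ω) (![x, s * w, w] : Fin 3 → Ω)).comp MvPolynomial.C =
      algebraMap k Ω := by
    apply RingHom.ext
    intro a
    simp
  rw [h3] at h
  refine fun h4 => hx ?_
  exact h.symm.trans h4

theorem hdpc (Ω : Type u) [Field Ω] [Algebra k Ω] [IsAlgClosed Ω] (hd : d ≠ 0) (hf : f.natDegree = d)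
    (hfs : f.Separable) (hg : g.natDegree = d) (hgs : g.Separable) (H : Form 3 k d)
    (hH : (H : MvPolynomial (Fin 4) k) =
      (∑ i ∈ Finset.range (d + 1), MvPolynomial.C (f.coeff i) * MvPolynomial.X 0 ^ i * MvPolynomial.X 1 ^ (d - i)) -
      (∑ i ∈ Finset.range (d + 1), MvPolynomial.C (g.coeff i) * MvPolynomial.X 2 ^ i * MvPolynomial.X 3 ^ (d - i)))
    [GeometricallyIntegral ((hypIdeal H).subschemeι ≫ CohB1.ProjSpace.toSpec 3 k)] :
    ∃ (n : ℕ) (C : Fin n → Scheme.{u}) (gC : ∀ i, C i ⟶ Spec (CommRingCat.of Ω))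
        (P : Scheme.{u}) (gP : P ⟶ Spec (CommRingCat.of Ω)) (π : ∀ i, P ⟶ C i) (hπ : ∀ i, π i ≫ gC i = gP),
        (∀ i, IsIntegral (C i) ∧ IsSeparated (gC i) ∧ LocallyOfFiniteType (gC i) ∧ QuasiCompact (gC i) ∧
          topologicalKrullDim ↥(C i) = 1) ∧
        Nonempty (IsLimit (Fan.mk (f := fun i => Over.mk (gC i)) (Over.mk gP) fun i => Over.homMk (π i) (hπ i))) ∧
        ∃ (U : P.Opens) (φ : (U : Scheme.{u}) ⟶ SGA7.bcField Ω ((hypIdeal H).subschemeι ≫ CohB1.ProjSpace.toSpec 3 k)),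
          (U : Set ↥P).Nonempty ∧
          φ ≫ pullback.snd ((hypIdeal H).subschemeι ≫ CohB1.ProjSpace.toSpec 3 k)
            (Spec.map (CommRingCat.ofHom (algebraMap k Ω))) = U.ι ≫ gP ∧
          DenseRange φ.base := by
  -- the chart
  obtain ⟨c, hc⟩ := Groth.Agent.Lefpen.H996.HypTwo.exists_chart_hyp H 1 (Ideal.Quotient.mk (Ideal.span {eqn d f g}))
    Ideal.Quotient.mk_surjective (by rw [Ideal.mk_ker, dehom_eq H hH])
  have hco : IsOpenImmersion c := MorphismProperty.of_isPullback hc inferInstance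
  have hcp : c ≫ (hypIdeal H).subschemeι ≫ CohB1.ProjSpace.toSpec 3 k =
      Spec.map (CommRingCat.ofHom (algebraMap k (Ch d f g))) := by
    rw [← Category.assoc, ← hc.w, Category.assoc, ProjSmooth.chart_toSpec, ← Spec.map_comp]
    rfl
  -- the curves
  obtain ⟨π, hπ, hlim⟩ := exists_fan (S := Spec (CommRingCat.of Ω))
    (fun i : Fin 2 => Spec (CommRingCat.of (CO Ω d ((![f, g] : Fin 2 → Polynomial k) i))))
    (fun i => Spec.map (CommRingCat.ofHom (algebraMap Ω (CO Ω d ((![f, g] : Fin 2 → Polynomial k) i)))))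
  let gf := Spec.map (CommRingCat.ofHom (algebraMap Ω (CO Ω d f)))
  let gg := Spec.map (CommRingCat.ofHom (algebraMap Ω (CO Ω d g)))
  let Pr := pullback gf gg
  let e : Pr ≅ Spec (CommRingCat.of (TT Ω d f g)) := pullbackSpecIso Ω (CO Ω d f) (CO Ω d g)
  let ψ : Pr ⟶ Spec (CommRingCat.of (Ω ⊗[k] Ch d f g)) := e.hom ≫ Spec.map (CommRingCat.ofHom (bb Ω hf hg).toRingHom)
  let co := cO Ω ((hypIdeal H).subschemeι ≫ CohB1.ProjSpace.toSpec 3 k) c hcp
  -- the image of `ψ` is dense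
  obtain ⟨ε₀, hε₀⟩ := exists_hom Ω hd hf hg
  have hnt : Nontrivial (Ω ⊗[k] Ch d f g) := ε₀.toRingHom.domain_nontrivial
  have hint : IsIntegral (SGA7.bcField Ω ((hypIdeal H).subschemeι ≫ CohB1.ProjSpace.toSpec 3 k)) :=
    GeometricallyIntegral.isIntegral_of_subsingleton (pullback.snd _ _)
  have hdom : IsDomain (Ω ⊗[k] Ch d f g) :=
    isDomain_of_isIntegral Ω ((hypIdeal H).subschemeι ≫ CohB1.ProjSpace.toSpec 3 k) c hcp
  have hψ : DenseRange ψ := by
    refine denseRange_of_points (Ω := Ω) ψ (qq Ω d f g) (fun h => hε₀ (by rw [h, map_zero])) fun ε hε => ?_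
    obtain ⟨ε', hε'⟩ := exists_point hf hg hd ε hε
    refine ⟨Spec.map (CommRingCat.ofHom ε'.toRingHom) ≫ e.inv, ?_⟩
    rw [Category.assoc, Iso.inv_hom_id_assoc, ← Spec.map_comp, ← CommRingCat.ofHom_comp]
    congr 2
    exact congrArg AlgHom.toRingHom hε'
  have hco' : DenseRange co := denseRange_cO Ω _ c hcp
  have hφ : DenseRange (ψ ≫ co) := denseRange_comp ψ co hψ hco'
  have hsnd : (ψ ≫ co) ≫ pullback.snd ((hypIdeal H).subschemeι ≫ CohB1.ProjSpace.toSpec 3 k)
      (Spec.map (CommRingCat.ofHom (algebraMap k Ω))) = pullback.fst gf gg ≫ gf := by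
    have h1 : co ≫ pullback.snd ((hypIdeal H).subschemeι ≫ CohB1.ProjSpace.toSpec 3 k)
        (Spec.map (CommRingCat.ofHom (algebraMap k Ω))) = _ := cO_snd Ω _ c hcp
    have h2 : Spec.map (CommRingCat.ofHom (bb Ω hf hg).toRingHom) ≫
        Spec.map (CommRingCat.ofHom (algebraMap Ω (Ω ⊗[k] Ch d f g))) =
        Spec.map (CommRingCat.ofHom (algebraMap Ω (TT Ω d f g))) := by
      rw [← Spec.map_comp, ← CommRingCat.ofHom_comp]
      congr 2
      exact (bb Ω hf hg).comp_algebraMap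
    have h3 : e.hom ≫ Spec.map (CommRingCat.ofHom (algebraMap (CO Ω d f) (TT Ω d f g))) = pullback.fst gf gg :=
      pullbackSpecIso_hom_fst' Ω (CO Ω d f) (CO Ω d g)
    have h4 : Spec.map (CommRingCat.ofHom (algebraMap Ω (TT Ω d f g))) =
        Spec.map (CommRingCat.ofHom (algebraMap (CO Ω d f) (TT Ω d f g))) ≫ gf := by
      rw [← Spec.map_comp, ← CommRingCat.ofHom_comp]
    rw [Category.assoc, Category.assoc, h1, h2, h4, ← Category.assoc, h3]
  refine ⟨2, _, _, _, _, π, hπ, ?_, hlim, ⊤, Scheme.Opens.ι _ ≫ ψ ≫ co, ?_, ?_, ?_⟩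
  · intro i
    match i with
    | 0 => exact good_CO Ω hd hf hfs
    | 1 => exact good_CO Ω hd hg hgs
  · have h1 : Nonempty Pr := hψ.nonempty_iff.2 inferInstance
    exact ⟨h1.some, trivial⟩
  · rw [Category.assoc]
    exact congrArg (fun t => Scheme.Opens.ι _ ≫ t) hsnd
  · exact denseRange_comp _ (ψ ≫ co) (denseRange_topι Pr) hφ

end K90.CyMap
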