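import Groth.Agent.Dix.K90.CyAlg
import Groth.Agent.Sga5.ProjChart
import Groth.Prelude.Def_LefPen
import Mathlib.RingTheory.TensorProduct.Basic

/-!
# The chart `Y ≠ 0` of the surface `F(X, Y) = G(Z, W)` and the product of the curves
`v ^ d = f(t)`, `r ^ d = g(s)` (ring maps)
-/

set_option autoImplicit false

universe u

open TensorProduct

namespace K90.CyRing

open K90.CyAlg Groth.Agent.Sga5

variable {k : Type u} [Field k] {d : ℕ} {f g : Polynomial k}

/-- `f(x) - Σ g_i z ^ i w ^ (d - i)`. -/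
noncomputable def eqn (d : ℕ) (f g : Polynomial k) : MvPolynomial (Fin 3) k :=
  (∑ i ∈ Finset.range (d + 1), MvPolynomial.C (f.coeff i) * MvPolynomial.X 0 ^ i) -
    (∑ i ∈ Finset.range (d + 1), MvPolynomial.C (g.coeff i) * MvPolynomial.X 1 ^ i * MvPolynomial.X 2 ^ (d - i))

theorem dehom_eq (H : LefPen.Form 3 k d) (hH : (H : MvPolynomial (Fin 4) k) =
      (∑ i ∈ Finset.range (d + 1), MvPolynomial.C (f.coeff i) * MvPolynomial.X 0 ^ i * MvPolynomial.X 1 ^ (d - i)) -
      (∑ i ∈ Finset.range (d + 1), MvPolynomial.C (g.coeff i) * MvPolynomial.X 2 ^ i * MvPolynomial.X 3 ^ (d - i))) :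
    ProjChart.dehom 3 k 1 H.1 = eqn d f g := by
  have h0 : ProjChart.dehom 3 k 1 (MvPolynomial.X 0) = MvPolynomial.X 0 := ProjChart.dehom_X 3 k 1 0
  have h2 : ProjChart.dehom 3 k 1 (MvPolynomial.X 2) = MvPolynomial.X 1 := ProjChart.dehom_X 3 k 1 1
  have h3 : ProjChart.dehom 3 k 1 (MvPolynomial.X 3) = MvPolynomial.X 2 := ProjChart.dehom_X 3 k 1 2
  rw [hH, map_sub, map_sum, map_sum, eqn]
  simp only [map_mul, map_pow, ProjChart.dehom_C, h0, h2, h3, ProjChart.dehom_X_self, one_pow, mul_one]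

/-- The value of the equation. -/
theorem eval_eqn {T : Type*} [CommRing T] (ι : k →+* T) (hf : f.natDegree = d) (a : Fin 3 → T) :
    MvPolynomial.eval₂Hom ι a (eqn d f g) = f.eval₂ ι (a 0) -
      ∑ i ∈ Finset.range (d + 1), ι (g.coeff i) * a 1 ^ i * a 2 ^ (d - i) := by
  rw [eqn, map_sub, map_sum, map_sum, Polynomial.eval₂_eq_sum_range, hf]
  simp only [map_mul, map_pow, MvPolynomial.coe_eval₂Hom, MvPolynomial.eval₂_C, MvPolynomial.eval₂_X]

theorem sum_eq {T : Type*} [CommRing T] (ι : k →+* T) (hg : g.natDegree = d) (s w : T) :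
    ∑ i ∈ Finset.range (d + 1), ι (g.coeff i) * (s * w) ^ i * w ^ (d - i) = w ^ d * g.eval₂ ι s := by
  rw [Polynomial.eval₂_eq_sum_range, hg, Finset.mul_sum]
  refine Finset.sum_congr rfl fun i hi => ?_
  have h : i + (d - i) = d := by
    have := Finset.mem_range.1 hi
    omega
  calc ι (g.coeff i) * (s * w) ^ i * w ^ (d - i) = ι (g.coeff i) * s ^ i * (w ^ i * w ^ (d - i)) := by ring
    _ = w ^ d * (ι (g.coeff i) * s ^ i) := by rw [← pow_add, h]; ring

/-- The chart ring. -/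
abbrev Ch (d : ℕ) (f g : Polynomial k) : Type u := MvPolynomial (Fin 3) k ⧸ Ideal.span {eqn d f g}

section Beta

variable {T : Type*} [CommRing T] (ι : k →+* T) (hf : f.natDegree = d) (hg : g.natDegree = d)
  (t v s w : T) (h : w ^ d * g.eval₂ ι s = f.eval₂ ι t)

include hf hg h in
theorem beta0_aux (a : MvPolynomial (Fin 3) k) (ha : a ∈ Ideal.span {eqn d f g}) :
    MvPolynomial.eval₂Hom ι ![t, s * w, w] a = 0 := by
  have h1 : MvPolynomial.eval₂Hom ι ![t, s * w, w] (eqn d f g) = 0 := by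
    rw [eval_eqn ι hf]
    refine sub_eq_zero.2 ?_
    change f.eval₂ ι t = _
    rw [← h, ← sum_eq ι hg]
    rfl
  have h2 : Ideal.span {eqn d f g} ≤ RingHom.ker (MvPolynomial.eval₂Hom ι ![t, s * w, w]) := by
    rw [Ideal.span_singleton_le_iff_mem]
    exact h1
  exact h2 ha

/-- The ring map on the chart ring given by `x = t`, `z = s w`, `w = w`. -/
noncomputable def beta0 (hf : f.natDegree = d) (hg : g.natDegree = d)
    (h : w ^ d * g.eval₂ ι s = f.eval₂ ι t) : Ch d f g →+* T :=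
  Ideal.Quotient.lift _ (MvPolynomial.eval₂Hom ι ![t, s * w, w]) (beta0_aux ι hf hg t s w h)

theorem beta0_C (a : k) : beta0 ι t s w hf hg h (Ideal.Quotient.mk _ (MvPolynomial.C a)) = ι a := by
  rw [beta0, Ideal.Quotient.lift_mk]
  simp

theorem beta0_X (j : Fin 3) :
    beta0 ι t s w hf hg h (Ideal.Quotient.mk _ (MvPolynomial.X j)) = (![t, s * w, w] : Fin 3 → T) j := by
  rw [beta0, Ideal.Quotient.lift_mk]
  simp

end Beta

section Tens

variable {Ω : Type u} [Field Ω] [Algebra k Ω] {A : Type u} [CommRing A] [Algebra k A] {T : Type u} [CommRing T]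
  [Algebra Ω T] (b : A →+* T)

/-- The extension of a ring map `A → T` to `Ω ⊗ A → T`. -/
noncomputable def ext (hb : ∀ a : k, b (algebraMap k A a) = algebraMap Ω T (algebraMap k Ω a)) :
    Ω ⊗[k] A →ₐ[Ω] T :=
  letI : Algebra k T := ((algebraMap Ω T).comp (algebraMap k Ω)).toAlgebra
  letI : IsScalarTower k Ω T := IsScalarTower.of_algebraMap_eq fun _ => rfl
  Algebra.TensorProduct.lift (Algebra.ofId Ω T) ({ b with commutes' := hb } : A →ₐ[k] T) fun _ _ => Commute.all _ _

theorem ext_tmul (hb : ∀ a : k, b (algebraMap k A a) = algebraMap Ω T (algebraMap k Ω a)) (ω : Ω) (a : A) :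
    ext b hb (ω ⊗ₜ a) = algebraMap Ω T ω * b a := by
  let _ : Algebra k T := ((algebraMap Ω T).comp (algebraMap k Ω)).toAlgebra
  have _ : IsScalarTower k Ω T := IsScalarTower.of_algebraMap_eq fun _ => rfl
  exact Algebra.TensorProduct.lift_tmul _ _ _ _ _

/-- Two `Ω`-algebra maps from `Ω ⊗ (chart ring)` agree if they agree on the coordinates. -/
theorem hom_ext {T : Type u} [CommRing T] [Algebra Ω T] (α β : Ω ⊗[k] (Ch d f g) →ₐ[Ω] T)
    (h : ∀ j : Fin 3, α (1 ⊗ₜ Ideal.Quotient.mk _ (MvPolynomial.X j)) =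
      β (1 ⊗ₜ Ideal.Quotient.mk _ (MvPolynomial.X j))) : α = β := by
  have h1 : (α.toRingHom.comp (Algebra.TensorProduct.includeRight (R := k) (A := Ω) (B := Ch d f g)).toRingHom) =
      (β.toRingHom.comp (Algebra.TensorProduct.includeRight (R := k) (A := Ω) (B := Ch d f g)).toRingHom) := by
    refine Ideal.Quotient.ringHom_ext (MvPolynomial.ringHom_ext (fun a => ?_) fun j => h j)
    change α (1 ⊗ₜ (algebraMap k (Ch d f g) a)) = β (1 ⊗ₜ (algebraMap k (Ch d f g) a))
    rw [← Algebra.TensorProduct.tmul_one_eq_one_tmul]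
    exact (α.commutes _).trans (β.commutes _).symm
  have h2 : ∀ a : Ch d f g, α (1 ⊗ₜ a) = β (1 ⊗ₜ a) := fun a => RingHom.congr_fun h1 a
  apply AlgHom.ext
  intro z
  induction z using TensorProduct.induction_on with
  | zero => rw [map_zero, map_zero]
  | add x y hx hy => rw [map_add, map_add, hx, hy]
  | tmul ω a =>
    have h3 : (ω ⊗ₜ[k] a : Ω ⊗[k] Ch d f g) = ω • (1 ⊗ₜ[k] a) := by
      rw [TensorProduct.smul_tmul', smul_eq_mul, mul_one]
    rw [h3, map_smul, map_smul, h2]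

end Tens

end K90.CyRing
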