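import Groth.Agent.Dix.PointConst
import Groth.Agent.Dix.K282.StkData
import Mathlib.GroupTheory.FiniteAbelian.Basic

/-!
# Finiteness of `H¹(K, G)` for a sheaf with finitely generated torsion-free stalk

* `finite_H1_of_galCover`: a Galois cover splitting `F`.
* `finite_H1_of_stk`: `G` on the étale site of `Spec K` whose stalk at `Spec Ω` is finitely generated and
  torsion-free: `H¹(K, G)` is finite.
-/

set_option autoImplicit false
set_option linter.unusedSectionVars false
universe v u
open CategoryTheory CategoryTheory.Limits AlgebraicGeometry Opposite TopologicalSpace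

namespace K90.FinH1

open Groth.Agent Groth.Agent.Dix.PointSite Groth.Agent.Dix.PointTransfer Groth.Agent.Dix.PointExact
  Groth.Agent.Dix.PointCoh Groth.Agent.Dix.PointConst

section H1

/-- Classes in `H¹(X, F)` from sections of the cokernel of `F ⟶ I`. -/
theorem exists_sect_of_class {X : Scheme.{u}} {F I G : EtCoh.Ab X} (i : F ⟶ I) (p : I ⟶ G)
    (w : i ≫ p = 0) (hT : (ShortComplex.mk i p w).ShortExact) [Injective I]
    {T : X.Etale} (hTt : IsTerminal T) :
    ∃ s : EtCoh.H X F 1 → EtCoh.sect G T, ∀ (c₁ c₂ : EtCoh.H X F 1) (t : EtCoh.sect I T),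
      p.hom.app (op T) t = s c₁ - s c₂ → c₁ = c₂ := by
  have : Injective (ShortComplex.mk i p w).X₂ := ‹Injective I›
  choose x hx using fun c : EtCoh.H X F 1 => ext_exists_of_injective hT c
  let e := Sheaf.H.equiv₀ G hTt
  let e' := Sheaf.H.equiv₀ I hTt
  refine ⟨fun c => e (x c), fun c₁ c₂ t ht => ?_⟩
  rw [← sub_eq_zero, ← hx c₁, ← hx c₂, ← one_nsmul (_ - _)]
  have h1 := ext_nsmul_eq_zero hT (zero_add 1) (x c₁ - x c₂) (e'.symm t) 1
    (H0_lift p hTt (x c₁ - x c₂) t 1 (by
      rw [one_nsmul]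
      exact (map_sub e (x c₁) (x c₂)).trans ht.symm))
  rw [show (x c₁ - x c₂).comp hT.extClass (zero_add 1) =
    (x c₁).comp hT.extClass (zero_add 1) - (x c₂).comp hT.extClass (zero_add 1) from
      map_sub (hT.extClass.postcomp _ (zero_add 1)) (x c₁) (x c₂)] at h1
  exact h1

end H1

section Lift

variable {K : Type u} [Field K]

/-- Lifting of sections when the automorphisms over `U` act trivially on `F`. -/
theorem exists_lift_pt' {F I G : EtCoh.Ab (Spec (.of K))} (i : F ⟶ I) (p : I ⟶ G) (w : i ≫ p = 0)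
    (hT : (ShortComplex.mk i p w).ShortExact)
    {U : (Spec (.of K)).Etale} (hU : IsPt U)
    (h1 : ∀ W : (Spec (.of K)).Etale, IsPt W → ∀ (g : W ⟶ U) (r : W ⟶ W), r ≫ g = g →
      ∀ m : EtCoh.sect F W, F.obj.map r.op m = m)
    (h2 : ∀ W : (Spec (.of K)).Etale, IsPt W → ∀ (n : ℕ) (m : EtCoh.sect F W), n ≠ 0 → n • m = 0 →
      m = 0) (s : EtCoh.sect G U) :
    ∃ t : EtCoh.sect I U, p.hom.app (op U) t = s := by
  have hi : Mono i := hT.mono_f
  have hp : Epi p := hT.epi_g
  obtain ⟨u⟩ := hU.nonempty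
  obtain ⟨V, g, v, t0, -, ht0⟩ := locImg_of_epi p s u
  obtain ⟨P, j, hP, -, -⟩ := exists_pt V v
  obtain ⟨W, q, Γ, _, _, hW, ⟨c⟩⟩ := exists_galCover (j ≫ g) hU hP
  let t := I.obj.map (q ≫ j).op t0
  have ht : p.hom.app (op W) t = G.obj.map (q ≫ j ≫ g).op s := by
    rw [← nat_apply, ht0, ← map_comp_apply, Category.assoc]
  have hm : ∀ γ : Γ, ∃ m : EtCoh.sect F W, i.hom.app (op W) m = I.obj.map (c.ρ γ).op t - t := by
    intro γ
    apply exists_of_exact hT.exact
    change p.hom.app (op W) _ = 0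
    rw [app_sub, ← nat_apply, ht, ← map_comp_apply, c.ρ_comp, sub_self]
  choose m hm using hm
  have hmul : ∀ γ δ, m (γ * δ) = m γ + m δ := by
    intro γ δ
    apply sect_injective_of_mono i
    rw [app_add, hm, hm, hm, c.ρ_mul, map_comp_apply]
    have e1 : I.obj.map (c.ρ δ).op t = i.hom.app (op W) (m δ) + t := by rw [hm]; abel
    have e2 : I.obj.map (c.ρ γ).op t = i.hom.app (op W) (m γ) + t := by rw [hm]; abel
    rw [e1, map_add', nat_apply, h1 W hW (q ≫ j ≫ g) _ (c.ρ_comp γ), e2]
    abel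
  let φ : Γ →* Multiplicative (EtCoh.sect F W) :=
    MonoidHom.mk' (fun γ => Multiplicative.ofAdd (m γ)) (fun γ δ => hmul γ δ)
  have hzero : ∀ γ, m γ = 0 := by
    intro γ
    refine h2 W hW (orderOf γ) _ (orderOf_pos γ).ne' ?_
    have := congrArg φ (pow_orderOf_eq_one γ)
    rw [map_pow, map_one] at this
    exact this
  obtain ⟨t', ht'⟩ := descend c I t (fun γ => by
    have := hm γ
    rw [hzero γ] at this
    exact (sub_eq_zero.1 (this.symm.trans (map_zero (i.hom.app (op W)).hom))))
  refine ⟨t', inj_of_surj (q ≫ j ≫ g) c.surj G ?_⟩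
  rw [nat_apply, ht', ht]

theorem finite_quot {A : Type*} [AddCommGroup A] [AddGroup.FG A] (n : ℕ) (hn : n ≠ 0) :
    Finite (A ⧸ (nsmulAddMonoidHom n : A →+ A).range) := by
  have hfg : AddGroup.FG (A ⧸ (nsmulAddMonoidHom n : A →+ A).range) :=
    QuotientAddGroup.fg _
  apply AddCommGroup.finite_of_fg_isAddTorsion
  intro x
  obtain ⟨a, rfl⟩ := QuotientAddGroup.mk_surjective x
  rw [isOfFinAddOrder_iff_nsmul_eq_zero]
  refine ⟨n, Nat.pos_of_ne_zero hn, ?_⟩
  rw [← QuotientAddGroup.mk_nsmul, QuotientAddGroup.eq_zero_iff]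
  exact ⟨a, rfl⟩

/-- `H¹(K, F)` is finite when a Galois cover `W` splits `F`. -/
theorem finite_H1_of_galCover (F : EtCoh.Ab (Spec (.of K))) {T W : (Spec (.of K)).Etale}
    (hTt : IsTerminal T) (f : W ⟶ T) (hW : IsPt W) {Γ : Type u} [Group Γ] [Finite Γ]
    (c : GalCover f Γ)
    (h1 : ∀ V : (Spec (.of K)).Etale, IsPt V → ∀ (g : V ⟶ W) (r : V ⟶ V), r ≫ g = g →
      ∀ m : EtCoh.sect F V, F.obj.map r.op m = m)
    (h2 : ∀ V : (Spec (.of K)).Etale, IsPt V → ∀ (n : ℕ) (m : EtCoh.sect F V), n ≠ 0 → n • m = 0 →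
      m = 0)
    (h3 : AddGroup.FG (EtCoh.sect F W)) : Finite (EtCoh.H (Spec (.of K)) F 1) := by
  let i := Injective.ι F
  let p := cokernel.π i
  have hT : (ShortComplex.mk i p (cokernel.condition i)).ShortExact :=
    { exact := ShortComplex.exact_of_g_is_cokernel _ (cokernelIsCokernel _)
      mono_f := by dsimp; infer_instance
      epi_g := by dsimp; infer_instance }
  have hi : Mono i := hT.mono_f
  have := Fintype.ofFinite Γ
  obtain ⟨s, hs⟩ := exists_sect_of_class i p (cokernel.condition i) hT hTt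
  choose t ht using fun x : EtCoh.H (Spec (.of K)) F 1 =>
    exists_lift_pt' i p (cokernel.condition i) hT hW h1 h2 ((cokernel i).obj.map f.op (s x))
  let n := Fintype.card Γ
  have hn : n ≠ 0 := Fintype.card_ne_zero
  -- translates
  have hρ : ∀ (x : EtCoh.H (Spec (.of K)) F 1) (γ : Γ),
      p.hom.app (op W) ((Injective.under F).obj.map (c.ρ γ).op (t x)) =
        p.hom.app (op W) (t x) := by
    intro x γ
    rw [← nat_apply, ht, ← map_comp_apply, c.ρ_comp]
  let N : EtCoh.H (Spec (.of K)) F 1 → EtCoh.sect (Injective.under F) W := fun x =>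
    ∑ γ, (Injective.under F).obj.map (c.ρ γ).op (t x)
  have hN : ∀ x γ, (Injective.under F).obj.map (c.ρ γ).op (N x) = N x := fun x γ =>
    map_rho_sum c (Injective.under F) (t x) γ
  have hpN : ∀ x, p.hom.app (op W) (N x) = n • p.hom.app (op W) (t x) := by
    intro x
    have e1 : p.hom.app (op W) (N x) =
      ∑ γ, p.hom.app (op W) ((Injective.under F).obj.map (c.ρ γ).op (t x)) :=
        _root_.map_sum (p.hom.app (op W)).hom _ _
    rw [e1]
    simp only [hρ]
    rw [Finset.sum_const, Finset.card_univ]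
  choose m hm using fun x => exists_of_exact hT.exact (N x - n • t x) (by
    change p.hom.app (op W) _ = 0
    rw [app_sub, hpN]
    have : p.hom.app (op W) (n • t x) = n • p.hom.app (op W) (t x) :=
      (p.hom.app (op W)).hom.map_nsmul _ _
    rw [this, sub_self])
  have hq := finite_quot (A := EtCoh.sect F W) n hn
  refine Finite.of_injective (fun x => (QuotientAddGroup.mk (m x) :
    EtCoh.sect F W ⧸ (nsmulAddMonoidHom n : EtCoh.sect F W →+ EtCoh.sect F W).range)) ?_
  intro x y hxy
  have h4 : ∃ g : EtCoh.sect F W, n • g = m x - m y := by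
    have h5 := QuotientAddGroup.eq.1 hxy.symm
    obtain ⟨g, hg⟩ := h5
    refine ⟨g, hg.trans ?_⟩
    abel
  obtain ⟨g, hg⟩ := h4
  let v : EtCoh.sect (Injective.under F) W := t x - t y + i.hom.app (op W) g
  have hnv : n • v = N x - N y := by
    have e1 : n • (i.hom.app (op W) g) = (N x - n • t x) - (N y - n • t y) := by
      have e2 : i.hom.app (op W) (n • g) = n • i.hom.app (op W) g :=
        (i.hom.app (op W)).hom.map_nsmul _ _
      have h8 := hm x
      have h9 := hm y
      rw [← e2, hg, app_sub, h8, h9]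
    rw [show n • v = n • t x - n • t y + n • (i.hom.app (op W) g) by
      simp only [v, nsmul_add, nsmul_sub], e1]
    abel
  have hpv : p.hom.app (op W) v = (cokernel i).obj.map f.op (s x - s y) := by
    have e3 : p.hom.app (op W) (i.hom.app (op W) g) = 0 := by
      have := congrArg (fun k : F ⟶ cokernel i => k.hom.app (op W) g) (cokernel.condition i)
      exact this
    rw [show p.hom.app (op W) v = p.hom.app (op W) (t x - t y) + p.hom.app (op W) (i.hom.app (op W) g)
      from app_add _ _ _ _, e3, add_zero, app_sub, ht, ht]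
    exact ((((cokernel i).obj.map f.op).hom.map_sub _ _)).symm
  have hinv : ∀ γ, (Injective.under F).obj.map (c.ρ γ).op v = v := by
    intro γ
    obtain ⟨a, ha⟩ := exists_of_exact hT.exact ((Injective.under F).obj.map (c.ρ γ).op v - v) (by
      change p.hom.app (op W) _ = 0
      rw [app_sub, ← nat_apply, hpv, ← map_comp_apply, c.ρ_comp, sub_self])
    have hna : n • a = 0 := by
      apply sect_injective_of_mono i W
      have e4 : i.hom.app (op W) (n • a) = n • i.hom.app (op W) a :=
        (i.hom.app (op W)).hom.map_nsmul _ _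
      rw [e4]
      have ha' : i.hom.app (op W) a = (Injective.under F).obj.map (c.ρ γ).op v - v := ha
      rw [ha', nsmul_sub, hnv]
      have e5 : (Injective.under F).obj.map (c.ρ γ).op (N x - N y) = N x - N y :=
        (((Injective.under F).obj.map (c.ρ γ).op).hom.map_sub _ _).trans
          (congrArg₂ (· - ·) (hN x γ) (hN y γ))
      have e6 : n • (Injective.under F).obj.map (c.ρ γ).op v =
          (Injective.under F).obj.map (c.ρ γ).op (n • v) :=
        (((Injective.under F).obj.map (c.ρ γ).op).hom.map_nsmul _ _).symm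
      rw [e6, hnv, e5, sub_self]
      exact (map_zero (i.hom.app (op W)).hom).symm
    have ha0 := h2 W hW n a hn hna
    have ha' : i.hom.app (op W) a = (Injective.under F).obj.map (c.ρ γ).op v - v := ha
    rw [ha0] at ha'
    exact sub_eq_zero.1 (ha'.symm.trans (map_zero (i.hom.app (op W)).hom))
  obtain ⟨t', ht'⟩ := descend c (Injective.under F) v hinv
  refine hs x y t' (inj_of_surj f c.surj _ ?_)
  rw [nat_apply, ht', hpv]

end Lift

section Stk

open Groth.Agent.Dix.K282.StkData Groth.Agent.Lefpen.H365.FieldPts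
  Groth.Agent.Lefpen.H365.B1

variable {K Ω : Type u} [Field K] [Field Ω] [Algebra K Ω]
  {G : EtCoh.Ab (Spec (CommRingCat.of K))} {S : Type v} [AddCommGroup S] (E : Stk Ω G S)

/-- The evaluation at a geometric point of a one-point object is injective. -/
theorem ev_eq_zero {V : (Spec (CommRingCat.of K)).Etale} (hV : IsPt V)
    (r : Spec (CommRingCat.of Ω) ⟶ V.left) (hr : r ≫ V.hom = xi K Ω) (s : EtCoh.sect G V)
    (h : E.ev V r hr s = 0) : s = 0 := by
  obtain ⟨V', k, r', hk, h0⟩ := E.inj V r hr s h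
  have := hV.subsingleton
  refine inj_of_surj k (fun v => ⟨r' default, Subsingleton.elim _ _⟩) G (h0.trans ?_)
  exact (map_zero (G.obj.map k.op).hom).symm

variable [Algebra.IsSeparable K Ω] [IsSepClosed Ω]

/-- Lifting a geometric point along a morphism to a one-point object. -/
theorem exists_lift_pt_geo {V W : (Spec (CommRingCat.of K)).Etale} (hW : IsPt W) (hV : IsPt V)
    (k : V ⟶ W) (r : Spec (CommRingCat.of Ω) ⟶ W.left) (hr : r ≫ W.hom = xi K Ω) :
    ∃ r' : Spec (CommRingCat.of Ω) ⟶ V.left, r' ≫ V.hom = xi K Ω ∧ r' ≫ k.left = r := by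
  obtain ⟨v⟩ := hV.nonempty
  have := hW.subsingleton
  obtain ⟨r', hr', -⟩ := Scheme.exists_fac_of_etale_of_isSepClosed k.left r v
    (Subsingleton.elim _ _)
  exact ⟨r', hom_of_fac k r' r hr hr', hr'⟩

include E in
/-- A one-point object on which the evaluation is surjective. -/
theorem exists_ev_surjective [AddGroup.FG S] :
    ∃ (P : (Spec (CommRingCat.of K)).Etale) (r : Spec (CommRingCat.of Ω) ⟶ P.left)
      (hr : r ≫ P.hom = xi K Ω), IsPt P ∧ Function.Surjective (E.ev P r hr) := by
  classical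
  have key : ∀ A : Finset S, ∃ (V : (Spec (CommRingCat.of K)).Etale)
      (r : Spec (CommRingCat.of Ω) ⟶ V.left) (hr : r ≫ V.hom = xi K Ω),
      ∀ a ∈ A, ∃ s : EtCoh.sect G V, E.ev V r hr s = a := by
    intro A
    induction A using Finset.induction_on with
    | empty =>
      exact ⟨EtCoh.top _, xi K Ω, Category.comp_id _, fun a ha => absurd ha (Finset.notMem_empty a)⟩
    | insert a A _ ih =>
      obtain ⟨V, r, hr, h⟩ := ih
      obtain ⟨V', k, r', hr', s, hk, hs⟩ := E.surj V r hr a
      refine ⟨V', r', hr', fun b hb => ?_⟩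
      rcases Finset.mem_insert.1 hb with rfl | hb
      · exact ⟨s, hs⟩
      · obtain ⟨s', hs'⟩ := h b hb
        exact ⟨G.obj.map k.op s', (E.nat k r' hr' r hr hk s').trans hs'⟩
  obtain ⟨A, hA⟩ := AddGroup.fg_def.1 (inferInstance : AddGroup.FG S)
  obtain ⟨V, r, hr, h⟩ := key A
  obtain ⟨P, i, hP, -, hi⟩ := exists_pt V (r default)
  obtain ⟨x⟩ := hP.nonempty
  obtain ⟨r', hr', -⟩ := Scheme.exists_fac_of_etale_of_isSepClosed i.left r x (hi x)
  have hr'' := hom_of_fac i r' r hr hr'
  refine ⟨P, r', hr'', hP, ?_⟩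
  rw [← AddMonoidHom.range_eq_top, eq_top_iff, ← hA, AddSubgroup.closure_le]
  intro a ha
  obtain ⟨s, hs⟩ := h a ha
  exact ⟨G.obj.map i.op s, (E.nat i r' hr'' r hr hr' s).trans hs⟩

include E in
/-- **Finiteness of `H¹(K, G)`** for a sheaf with finitely generated torsion-free stalk. -/
theorem finite_H1_of_stk [AddGroup.FG S]
    (htf : ∀ (n : ℕ) (x : S), n ≠ 0 → n • x = 0 → x = 0) :
    Finite (EtCoh.H (Spec (CommRingCat.of K)) G 1) := by
  obtain ⟨P, r, hr, hP, hsurj⟩ := exists_ev_surjective E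
  let T : (Spec (CommRingCat.of K)).Etale := EtCoh.top _
  have hTt : IsTerminal T := EtCore.topIsTerminal _
  obtain ⟨W, q, Γ, _, _, hW, ⟨c⟩⟩ := exists_galCover (hTt.from P) (isPt_terminal hTt) hP
  obtain ⟨rW, hrW, hqr⟩ := exists_lift_pt_geo hP hW q r hr
  have hsW : Function.Surjective (E.ev W rW hrW) := by
    intro x
    obtain ⟨s, hs⟩ := hsurj x
    exact ⟨G.obj.map q.op s, (E.nat q rW hrW r hr hqr s).trans hs⟩
  have hiW : Function.Injective (E.ev W rW hrW) := by
    rw [injective_iff_map_eq_zero]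
    exact fun s hs => ev_eq_zero E hW rW hrW s hs
  refine finite_H1_of_galCover G hTt _ hW c ?_ ?_ ?_
  · intro V hV g ρ hρ m
    obtain ⟨rV, hrV, hgr⟩ := exists_lift_pt_geo hW hV g rW hrW
    obtain ⟨s, hs⟩ := hsW (E.ev V rV hrV m)
    have hm : m = G.obj.map g.op s := by
      rw [← sub_eq_zero]
      apply ev_eq_zero E hV rV hrV
      rw [map_sub, E.nat g rV hrV rW hrW hgr s, hs, sub_self]
    rw [hm, ← map_comp_apply, hρ]
  · intro V hV n m hn hm
    obtain ⟨v⟩ := hV.nonempty
    obtain ⟨rV, hrV, -⟩ := exists_lift (Ω := Ω) v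
    apply ev_eq_zero E hV rV hrV
    apply htf n _ hn
    rw [← map_nsmul, hm, map_zero]
  · have e : EtCoh.sect G W ≃+ S := AddEquiv.ofBijective (E.ev W rW hrW) ⟨hiW, hsW⟩
    exact AddGroup.fg_of_surjective (f := e.symm.toAddMonoidHom) e.symm.surjective

end Stk

end K90.FinH1
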