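import Groth.Agent.Books.AntiAffine
import Groth.Agent.Sga67.DVRConn
import Groth.Agent.CurvesA.MuConst
import Groth.Agent.Dix.PointExact
import Groth.Agent.Dix.K282.StkData
import Groth.Prelude.Def_EtLim

/-!
# `f_* G_m = G_m` for `f : X ⟶ Spec K` proper and geometrically integral
-/

set_option autoImplicit false
set_option linter.unusedSectionVars false
universe u
open CategoryTheory CategoryTheory.Limits AlgebraicGeometry Opposite

namespace K90.GmProper

open Groth.Agent Groth.Agent.Dix.PointSite Groth.Agent.Dix.PointTransfer Groth.Agent.Dix.PointExact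
open Groth.Agent.CurvesA.MuConst (unitOf ofUnit unitOf_add unitOf_injective unitOf_map unitOf_ofUnit
  unitOf_zero)

variable {K : Type u} [Field K] {X : Scheme.{u}} (f : X ⟶ Spec (CommRingCat.of K)) [IsProper f]
  [GeometricallyIntegral f]

/-- `Γ(V ×_K X, O) = Γ(V, O)` for `V` affine and flat over `K`. -/
theorem isIso_fst_appTop {V : Scheme.{u}} (g : V ⟶ Spec (CommRingCat.of K)) [Flat g] [IsAffine V] :
    IsIso (pullback.fst g f).appTop := by
  have H : IsPullback (pullback.snd g f) (pullback.fst g f) f g := (IsPullback.of_hasPullback g f).flip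
  have : IsIso f.appTop :=
    (ConcreteCategory.isIso_iff_bijective f.appTop).mpr (Sga67.DVRConn.appTop_bijective_of_field K X f)
  have hc : CompactSpace X := (quasiCompact_iff_compactSpace f).mp inferInstance
  have hq : QuasiSeparatedSpace X := (quasiSeparated_iff_quasiSeparatedSpace f).mp inferInstance
  have h := Books.AntiAffine.isPushout_appTop_of_flat H
  exact h.isIso_inr_of_isIso

theorem unitOf_gmPush {V : (Spec (CommRingCat.of K)).Etale}
    (s : EtCoh.sect (EtCoh.Gm (Spec (CommRingCat.of K))) V) :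
    ((unitOf (X := X) (U := (EtCoh.bc f).obj V) ((EtLim.GmPush f).hom.app (op V) s) :
      (Γ(((EtCoh.bc f).obj V).left, ⊤))ˣ) : Γ(((EtCoh.bc f).obj V).left, ⊤)) =
      (pullback.fst V.hom f).appTop.hom (unitOf s : Γ(V.left, ⊤)) := rfl

theorem app_injective {V : (Spec (CommRingCat.of K)).Etale} (hV : IsPt V)
    (s : EtCoh.sect (EtCoh.Gm (Spec (CommRingCat.of K))) V)
    (h : (EtLim.GmPush f).hom.app (op V) s = 0) : s = 0 := by
  have hE : Etale V.hom := V.prop
  have hfl : Flat V.hom := inferInstance
  have hi := @isIso_fst_appTop K _ X f _ _ V.left V.hom hfl hV.isAffine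
  apply unitOf_injective
  apply Units.ext
  apply (ConcreteCategory.isIso_iff_bijective (pullback.fst V.hom f).appTop).1 hi |>.1
  refine (unitOf_gmPush f s).symm.trans ?_
  rw [h]
  refine Eq.trans ?_ (map_one (pullback.fst V.hom f).appTop.hom).symm
  rfl

theorem app_surjective {V : (Spec (CommRingCat.of K)).Etale} (hV : IsPt V)
    (s : EtCoh.sect ((EtCoh.push f).obj (EtCoh.Gm X)) V) :
    ∃ t : EtCoh.sect (EtCoh.Gm (Spec (CommRingCat.of K))) V, (EtLim.GmPush f).hom.app (op V) t = s := by
  have hE : Etale V.hom := V.prop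
  have hfl : Flat V.hom := inferInstance
  have hi := @isIso_fst_appTop K _ X f _ _ V.left V.hom hfl hV.isAffine
  let e : Γ(V.left, ⊤) ≃* Γ(((EtCoh.bc f).obj V).left, ⊤) :=
    (RingEquiv.ofBijective (pullback.fst V.hom f).appTop.hom
      ((ConcreteCategory.isIso_iff_bijective (pullback.fst V.hom f).appTop).1 hi)).toMulEquiv
  refine ⟨ofUnit ((Units.mapEquiv e).symm (unitOf (X := X) (U := (EtCoh.bc f).obj V) s)), ?_⟩
  apply unitOf_injective (X := X) (U := (EtCoh.bc f).obj V)
  apply Units.ext
  refine (unitOf_gmPush f _).trans ?_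
  rw [unitOf_ofUnit]
  exact congrArg Units.val ((Units.mapEquiv e).apply_symm_apply
    (unitOf (X := X) (U := (EtCoh.bc f).obj V) s))

/-- `G_m ⟶ f_* G_m` is an isomorphism. -/
theorem isIso_gmPush : IsIso (EtLim.GmPush f) := by
  have h1 : Mono (EtLim.GmPush f) := by
    apply Dix.K282.StkData.mono_of_app_injective
    intro V s hs
    refine ext_of_pt _ fun P i hP => ?_
    have h2 : (EtLim.GmPush f).hom.app (op P)
        ((EtCoh.Gm (Spec (CommRingCat.of K))).obj.map i.op s) = 0 := by
      rw [← nat_apply, hs]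
      exact map_zero (((EtCoh.push f).obj (EtCoh.Gm X)).obj.map i.op).hom
    rw [app_injective f hP _ h2]
    exact (map_zero ((EtCoh.Gm (Spec (CommRingCat.of K))).obj.map i.op).hom).symm
  have h2 : Epi (EtLim.GmPush f) := by
    apply epi_of_locImg
    intro V s v
    obtain ⟨P, i, hP, -, hi⟩ := exists_pt V v
    obtain ⟨p⟩ := hP.nonempty
    obtain ⟨t, ht⟩ := app_surjective f hP (((EtCoh.push f).obj (EtCoh.Gm X)).obj.map i.op s)
    exact ⟨P, i, p, t, hi p, ht⟩
  exact isIso_of_mono_of_epi _

end K90.GmProper
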