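import Groth.Agent.Dix.K90.KerBr
import Groth.Agent.Dix.K90.GmProper

/-!
# Finiteness of `Br X / Br k` for `X` proper and geometrically integral

`K90.DixKer.finite_quot`: `H¹(X_Ω, G_m)` finitely generated and torsion-free, `Br(X_Ω)^Γ` finite ⟹
`Br X / Br k` finite.
-/

set_option autoImplicit false
universe u
open CategoryTheory CategoryTheory.Limits AlgebraicGeometry

namespace K90.DixKer

theorem finite_quot (k Ω : Type u) [Field k] [Field Ω] [Algebra k Ω] [IsSepClosure k Ω]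
    [∀ ⦃Y Z : Scheme.{u}⦄ (g : Y ⟶ Z), PreservesFiniteLimits (EtCoh.pull g)]
    {X : Scheme.{u}} (f : X ⟶ Spec (CommRingCat.of k)) [IsProper f] [GeometricallyIntegral f]
    (hfg : AddGroup.FG (EtCoh.H (SGA7.bcField Ω f) (EtCoh.Gm (SGA7.bcField Ω f)) 1))
    (htf : ∀ (n : ℕ) (x : EtCoh.H (SGA7.bcField Ω f) (EtCoh.Gm (SGA7.bcField Ω f)) 1),
      n • x = 0 → n = 0 ∨ x = 0)
    (hbr : Finite (Dix.brInv Ω f)) :
    Finite (Dix.BrCoh X ⧸ (EtLim.HGmPull f 2).range) :=
  finite_quot_of_isIso f (GmProper.isIso_gmPush f) hfg htf hbr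

end K90.DixKer
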