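import Groth.Agent.Dix.K282.StkData
import Groth.Agent.Dix.PointSite

/-!
# The stalk of `R^n f_* F` at a geometric point of a field

`f : X ⟶ Spec K` quasi-compact quasi-separated, `E : Edge f F n G`: the stalk of `G` at `Spec Ω` is
`H^n(X_Ω, F)` (`stk`), with the compatibility `ev_e`.
-/

set_option autoImplicit false
set_option linter.unusedSectionVars false
universe u
open CategoryTheory CategoryTheory.Limits AlgebraicGeometry Opposite Abelian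
open scoped Groth.Agent.Etcore.EtInst
open Groth.Agent.Etcore.EtInst

namespace K90.StkEdge

open Groth.Agent Groth.Agent.Etcore Groth.Agent.Etcore.HQ Groth.Agent.Etcore.RpushLoc
open Groth.Agent.Etcore.PullCoh (map_res res_comp res_id map_comp_app)
open Groth.Agent.EtpbcB.Big
open Groth.Agent.Lefpen.H365.FieldPts Groth.Agent.Lefpen.H365.Edge Groth.Agent.Lefpen.H365.Ev
  Groth.Agent.Lefpen.H365.Ev2 Groth.Agent.Lefpen.H365.B1
open Groth.Agent.Lefpen.H712.HT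
open Groth.Agent.Dix.K282.StkData

variable {K Ω : Type u} [Field K] [Field Ω] [Algebra K Ω]

/-- Common refinements of étale neighbourhoods of a geometric point. -/
theorem exists_refine {V V₁ V₂ : (Spec (CommRingCat.of K)).Etale} (k₁ : V₁ ⟶ V) (k₂ : V₂ ⟶ V)
    (r₁ : Spec (CommRingCat.of Ω) ⟶ V₁.left) (r₂ : Spec (CommRingCat.of Ω) ⟶ V₂.left)
    (h : r₁ ≫ k₁.left = r₂ ≫ k₂.left) :
    ∃ (V₃ : (Spec (CommRingCat.of K)).Etale) (a : V₃ ⟶ V₁) (b : V₃ ⟶ V₂)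
      (r₃ : Spec (CommRingCat.of Ω) ⟶ V₃.left),
      a ≫ k₁ = b ≫ k₂ ∧ r₃ ≫ a.left = r₁ ∧ r₃ ≫ b.left = r₂ := by
  have hV : Etale V₁.hom := V₁.prop
  have e1 : k₁.left ≫ V.hom = V₁.hom := Dix.PointSite.w_left k₁
  have e2 : k₂.left ≫ V.hom = V₂.hom := Dix.PointSite.w_left k₂
  let Z : (Spec (CommRingCat.of K)).Etale := Scheme.Etale.mk (pullback.fst k₁.left k₂.left ≫ V₁.hom)
  have e3 : pullback.snd k₁.left k₂.left ≫ V₂.hom = pullback.fst k₁.left k₂.left ≫ V₁.hom := by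
    rw [← e1, ← e2, ← Category.assoc, ← Category.assoc, pullback.condition]
  exact ⟨Z, Dix.PointSite.ehom (pullback.fst k₁.left k₂.left) rfl,
    Dix.PointSite.ehom (pullback.snd k₁.left k₂.left) e3, pullback.lift r₁ r₂ h,
    Dix.PointSite.ehom_ext pullback.condition, pullback.lift_fst _ _ _, pullback.lift_snd _ _ _⟩

variable [Algebra.IsSeparable K Ω]
  {X : Scheme.{u}} {f : X ⟶ Spec (CommRingCat.of K)}
  {F : EtCoh.Ab X} {n : ℕ} {G : EtCoh.Ab (Spec (CommRingCat.of K))} (E : Edge f F n G)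

/-- The value of `s` at `r` is `x`. -/
structure Val {V : (Spec (CommRingCat.of K)).Etale} (r : Spec (CommRingCat.of Ω) ⟶ V.left)
    (s : EtCoh.sect G V) (x : HT f F (xi K Ω) n) : Prop where
  out : ∃ (V' : (Spec (CommRingCat.of K)).Etale) (k : V' ⟶ V) (r' : Spec (CommRingCat.of Ω) ⟶ V'.left)
    (hr' : r' ≫ V'.hom = xi K Ω) (y : HQ F (pr f V') n),
      r' ≫ k.left = r ∧ E.e V' y = G.obj.map k.op s ∧ ev f F r' hr' n y = x

variable {E}

theorem Val.add {V : (Spec (CommRingCat.of K)).Etale} {r : Spec (CommRingCat.of Ω) ⟶ V.left}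
    {s s' : EtCoh.sect G V} {x x' : HT f F (xi K Ω) n} (h : Val E r s x) (h' : Val E r s' x') :
    Val E r (s + s') (x + x') := by
  obtain ⟨⟨V₁, k₁, r₁, hr₁, y₁, e1, e2, rfl⟩⟩ := h
  obtain ⟨⟨V₂, k₂, r₂, hr₂, y₂, e3, e4, rfl⟩⟩ := h'
  obtain ⟨V₃, a, b, r₃, h1, h2, h3⟩ := exists_refine k₁ k₂ r₁ r₂ (e1.trans e3.symm)
  have hr₃ : r₃ ≫ V₃.hom = xi K Ω := hom_of_fac a r₃ r₁ hr₁ h2
  refine ⟨⟨V₃, a ≫ k₁, r₃, hr₃, res F (mm f a) (mm_pr f a) n y₁ + res F (mm f b) (mm_pr f b) n y₂,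
    ?_, ?_, ?_⟩⟩
  · rw [← e1, ← h2]
    exact (Category.assoc _ _ _).symm
  · rw [map_add, map_add, ← E.nat, ← E.nat, e2, e4, ← res_comp, ← res_comp, h1]
  · rw [map_add, ev_mm f F a r₃ hr₃ r₁ hr₁ h2, ev_mm f F b r₃ hr₃ r₂ hr₂ h3]

theorem Val.neg {V : (Spec (CommRingCat.of K)).Etale} {r : Spec (CommRingCat.of Ω) ⟶ V.left}
    {s : EtCoh.sect G V} {x : HT f F (xi K Ω) n} (h : Val E r s x) : Val E r (-s) (-x) := by
  obtain ⟨⟨V₁, k₁, r₁, hr₁, y₁, e1, e2, rfl⟩⟩ := h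
  exact ⟨⟨V₁, k₁, r₁, hr₁, -y₁, e1, by rw [map_neg, map_neg, e2], by rw [map_neg]⟩⟩

theorem Val.sub {V : (Spec (CommRingCat.of K)).Etale} {r : Spec (CommRingCat.of Ω) ⟶ V.left}
    {s s' : EtCoh.sect G V} {x x' : HT f F (xi K Ω) n} (h : Val E r s x) (h' : Val E r s' x') :
    Val E r (s - s') (x - x') := by
  rw [sub_eq_add_neg, sub_eq_add_neg]
  exact h.add h'.neg

/-- Values and pullback. -/
theorem Val.of_map {V V' : (Spec (CommRingCat.of K)).Etale} (k : V' ⟶ V)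
    {r' : Spec (CommRingCat.of Ω) ⟶ V'.left} {s : EtCoh.sect G V} {x : HT f F (xi K Ω) n}
    (h : Val E r' (G.obj.map k.op s) x) : Val E (r' ≫ k.left) s x := by
  obtain ⟨⟨V₁, k₁, r₁, hr₁, y₁, e1, e2, rfl⟩⟩ := h
  refine ⟨⟨V₁, k₁ ≫ k, r₁, hr₁, y₁, ?_, ?_, rfl⟩⟩
  · rw [← e1]
    exact (Category.assoc _ _ _).symm
  · rw [e2, res_comp]

/-- The value of a class. -/
theorem val_e {V : (Spec (CommRingCat.of K)).Etale} (r : Spec (CommRingCat.of Ω) ⟶ V.left)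
    (hr : r ≫ V.hom = xi K Ω) (y : HQ F (pr f V) n) : Val E r (E.e V y) (ev f F r hr n y) :=
  ⟨⟨V, 𝟙 V, r, hr, y, Category.comp_id r, (map_id_apply G V _).symm, rfl⟩⟩

variable [IsSepClosed Ω]

theorem Val.eq_zero {V : (Spec (CommRingCat.of K)).Etale} {r : Spec (CommRingCat.of Ω) ⟶ V.left}
    {x : HT f F (xi K Ω) n} (h : Val E r 0 x) : x = 0 := by
  obtain ⟨⟨V₁, k₁, r₁, hr₁, y₁, e1, e2, rfl⟩⟩ := h
  rw [map_zero] at e2
  obtain ⟨V', k, v, hv, h0⟩ := E.inj V₁ y₁ e2 (r₁ default)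
  obtain ⟨r', hr', -⟩ := Scheme.exists_fac_of_etale_of_isSepClosed k.left r₁ v hv
  have hr'' : r' ≫ V'.hom = xi K Ω := hom_of_fac k r' r₁ hr₁ hr'
  rw [← ev_mm f F k r' hr'' r₁ hr₁ hr' n y₁, h0, map_zero]

theorem Val.unique {V : (Spec (CommRingCat.of K)).Etale} {r : Spec (CommRingCat.of Ω) ⟶ V.left}
    {s : EtCoh.sect G V} {x x' : HT f F (xi K Ω) n} (h : Val E r s x) (h' : Val E r s x') : x = x' := by
  have h1 := h.sub h'
  rw [sub_self] at h1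
  exact sub_eq_zero.1 h1.eq_zero

variable (E) in
theorem exists_val {V : (Spec (CommRingCat.of K)).Etale} (r : Spec (CommRingCat.of Ω) ⟶ V.left)
    (hr : r ≫ V.hom = xi K Ω) (s : EtCoh.sect G V) : ∃ x : HT f F (xi K Ω) n, Val E r s x := by
  obtain ⟨V', k, v, y, hv, hy⟩ := E.surj V s (r default)
  obtain ⟨r', hr', -⟩ := Scheme.exists_fac_of_etale_of_isSepClosed k.left r v hv
  have hr'' : r' ≫ V'.hom = xi K Ω := hom_of_fac k r' r hr hr'
  exact ⟨_, ⟨⟨V', k, r', hr'', y, hr', hy, rfl⟩⟩⟩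

/-- The stalk of `G` at the geometric point. -/
theorem nonempty_stk [QuasiCompact f] [QuasiSeparated f] (E : Edge f F n G) :
    ∃ T : Stk Ω G (HT f F (xi K Ω) n), ∀ (V : (Spec (CommRingCat.of K)).Etale)
      (r : Spec (CommRingCat.of Ω) ⟶ V.left) (hr : r ≫ V.hom = xi K Ω) (y : HQ F (pr f V) n),
        T.ev V r hr (E.e V y) = ev f F r hr n y := by
  choose φ hφ using fun (V : (Spec (CommRingCat.of K)).Etale)
    (r : Spec (CommRingCat.of Ω) ⟶ V.left) (hr : r ≫ V.hom = xi K Ω) (s : EtCoh.sect G V) =>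
      exists_val E r hr s
  refine ⟨{ ev := fun V r hr => AddMonoidHom.mk' (φ V r hr) (fun s t =>
      (hφ V r hr (s + t)).unique ((hφ V r hr s).add (hφ V r hr t)))
            nat := ?_, inj := ?_, surj := ?_ }, ?_⟩
  · intro V V' k r' hr' r hr e s
    subst e
    exact ((hφ V' r' hr' (G.obj.map k.op s)).of_map k).unique (hφ V (r' ≫ k.left) hr s)
  · intro V r hr s h
    have h1 : φ V r hr s = 0 := h
    have h2 := hφ V r hr s
    rw [h1] at h2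
    obtain ⟨⟨V₁, k₁, r₁, hr₁, y₁, e1, e2, h0⟩⟩ := h2
    obtain ⟨M, k, hk, hM⟩ := exists_res_eq_zero f F n r₁ hr₁ y₁ h0
    refine ⟨VL K Ω M, k ≫ k₁, rL M, ?_, ?_⟩
    · rw [← e1, ← hk]
      exact (Category.assoc _ _ _).symm
    · rw [res_comp, ← e2, E.nat, hM, map_zero]
  · intro V r hr x
    obtain ⟨L, y, hy⟩ := exists_ev f F n x
    obtain ⟨L', a, ha⟩ := exists_fac V r hr
    obtain ⟨M, h1, h2⟩ := exists_ge_ge L L'
    refine ⟨VL K Ω M, tr h2 ≫ a, rL M, rL_hom M,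
      E.e (VL K Ω M) (res F (mm f (tr h1)) (mm_pr f (tr h1)) n y), ?_, ?_⟩
    · rw [← ha, ← rL_tr h2]
      exact (Category.assoc _ _ _).symm
    · refine (hφ _ _ _ _).unique ?_
      have h3 := val_e (E := E) (rL M) (rL_hom M) (res F (mm f (tr h1)) (mm_pr f (tr h1)) n y)
      rwa [ev_mm f F (tr h1) (rL M) (rL_hom M) (rL L) (rL_hom L) (rL_tr h1) n y, hy] at h3
  · intro V r hr y
    exact (hφ V r hr (E.e V y)).unique (val_e r hr y)

end K90.StkEdge
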