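import Groth.Agent.Dix.K90.LerayKer
import Groth.Agent.Dix.K90.FinH1
import Groth.Agent.Dix.K90.StkEdge
import Groth.Agent.Dix.K282.BrLift
import Groth.Agent.Dix.K280.GmPullComp

/-!
# Finiteness of `Br X / Br K`

`f : X ⟶ Spec K` quasi-compact quasi-separated, `Ω` a separable closure of `K`.

* `finite_quot_aux`: for any sheaf `F`: if `H¹(X_Ω, F)` is finitely generated and torsion-free and the image of
  `H²(X, F)` in `H²(X_Ω, F)` is finite, then the cokernel of `H²(K, f_* F) ⟶ H²(X, F)` is finite.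
* `finite_quot_of_isIso`: the same for `G_m`, with `Dix.brInv`.
-/

set_option autoImplicit false
set_option linter.unusedSectionVars false
universe u
open CategoryTheory CategoryTheory.Limits AlgebraicGeometry Opposite Abelian
open scoped Groth.Agent.Etcore.EtInst
open Groth.Agent.Etcore.EtInst

namespace K90.DixKer

open Groth.Agent Groth.Agent.Etcore Groth.Agent.Etcore.HQ Groth.Agent.Etcore.RpushLoc
open Groth.Agent.Etcore.HpullCalc Groth.Agent.Etcore.PullCoh Groth.Agent.Etcore.GmFun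
open Groth.Agent.Lefpen.H365.FieldPts Groth.Agent.Lefpen.H365.Edge Groth.Agent.Lefpen.H365.Ev
  Groth.Agent.Lefpen.H365.Ev2 Groth.Agent.Lefpen.H365.B1
open Groth.Agent.Lefpen.H712.HT
open Groth.Agent.EtpbcB.EdgeLemma
open Groth.Agent.Dix.K282.InvLift
open K90.LerayKer

attribute [local instance] pfl

section Edge

variable {X Y : Scheme.{u}} (f : X ⟶ Y) (F : EtCoh.Ab X)

/-- `R¹ f_* F` as the cokernel of `κ`. -/
theorem nonempty_edge_kap :
    Nonempty (Edge f F 1 (cokernel (kap (EtCoh.push f) (injSeq F)))) := by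
  obtain ⟨E, -⟩ := exists_edge_one (f := f) (injSeq_shortExact F)
    (fun V x => eq_zero_of_injective _ _ 0 x)
  have e1 : cokernel ((EtCoh.push f).map (injSeq F).g) ≅
      cokernel (cokernel.π ((EtCoh.push f).map (injSeq F).f) ≫ kap (EtCoh.push f) (injSeq F)) :=
    cokernelIsoOfEq (π_kap (R := EtCoh.push f) (S := injSeq F)).symm
  exact nonempty_ofIso E (e1 ≪≫ cokernelEpiComp _ _)

end Edge

variable {K Ω : Type u} [Field K] [Field Ω] [Algebra K Ω] [IsSepClosure K Ω]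
  {X : Scheme.{u}} (f : X ⟶ Spec (CommRingCat.of K)) [QuasiCompact f] [QuasiSeparated f]
  (F : EtCoh.Ab X)

/-- `H¹(K, R¹ f_* F)` is finite if `H¹(X_Ω, F)` is finitely generated and torsion-free. -/
theorem finite_H1_coker (hfg : AddGroup.FG (HT f F (xi K Ω) 1))
    (htf : ∀ (n : ℕ) (x : HT f F (xi K Ω) 1), n ≠ 0 → n • x = 0 → x = 0) :
    Finite (EtCoh.H (Spec (CommRingCat.of K)) (cokernel (kap (EtCoh.push f) (injSeq F))) 1) := by
  have i1 : Algebra.IsSeparable K Ω := IsSepClosure.separable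
  have i2 : IsSepClosed Ω := IsSepClosure.sep_closed K
  obtain ⟨E⟩ := nonempty_edge_kap f F
  obtain ⟨T, -⟩ := StkEdge.nonempty_stk (Ω := Ω) E
  exact @FinH1.finite_H1_of_stk K Ω _ _ _ _ _ _ T _ _ hfg htf

/-- A class which dies on `X_Ω` dies over a finite extension. -/
theorem exists_kill (n : ℕ) (e : HH X F n) (he : hp (pullback.fst f (xi K Ω)) F n e = 0) :
    ∃ V : (Spec (CommRingCat.of K)).Etale, Function.Surjective V.hom ∧
      hp (pr f V) F n e = 0 := by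
  have i1 : Algebra.IsSeparable K Ω := IsSepClosure.separable
  have i2 : IsSepClosed Ω := IsSepClosure.sep_closed K
  have hr : (xi K Ω : Spec (CommRingCat.of Ω) ⟶ (EtCoh.top (Spec (CommRingCat.of K))).left) ≫
    (EtCoh.top (Spec (CommRingCat.of K))).hom = xi K Ω := comp_top _ (xi K Ω)
  have h1 := ev_hp f F (V := EtCoh.top (Spec (CommRingCat.of K))) (xi K Ω) hr n e
  obtain ⟨M, k, hk, h2⟩ := exists_res_eq_zero f F n (V := EtCoh.top (Spec (CommRingCat.of K)))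
    (xi K Ω) hr _ (h1.trans he)
  refine ⟨VL K Ω M, fun x => ⟨rL M default, Subsingleton.elim (α := PrimeSpectrum K) _ _⟩, ?_⟩
  exact (hp_comp_th (mm f k) (pr f (EtCoh.top (Spec (CommRingCat.of K)))) (pr f (VL K Ω M))
    (mm_pr f k) F n e).symm.trans h2

theorem finite_quot_aux (hfin : Finite (EtCoh.H (Spec (CommRingCat.of K))
      (cokernel (kap (EtCoh.push f) (injSeq F))) 1)) {B : Type*} [AddCommGroup B]
    (ρ : EtCoh.H X F 2 →+ B) (hρ : Finite ρ.range)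
    (hρ0 : ∀ e, ρ e = 0 → hp (pullback.fst f (xi K Ω)) F 2 e = 0) :
    Finite (EtCoh.H X F 2 ⧸ (EtLim.HofPush f F 2).range) := by
  have hS : (injSeq F).ShortExact := injSeq_shortExact F
  have hex : ∀ e : EtCoh.H X F 2, ρ e = 0 →
      ∃ ξ : EtCoh.H (Spec (CommRingCat.of K)) ((EtCoh.push f).obj (injSeq F).X₃) 1,
      (EtLim.HofPush f (injSeq F).X₃ 1 ξ : Ext (EtCoh.const X ℤ) (injSeq F).X₃ 1).comp hS.extClass
        (rfl : 1 + 1 = 2) = e := by
    intro e he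
    obtain ⟨V, hV, h0⟩ := exists_kill (Ω := Ω) f F 2 e (hρ0 e he)
    exact exists_delta_eq f hS e V hV h0
  choose x hx using hex
  let π := Ext.mk₀ (cokernel.π (kap (EtCoh.push f) (injSeq F)))
  let Φ : EtCoh.H (Spec (CommRingCat.of K)) ((EtCoh.push f).obj (injSeq F).X₃) 1 →+
      EtCoh.H (Spec (CommRingCat.of K)) (cokernel (kap (EtCoh.push f) (injSeq F))) 1 :=
    π.postcomp _ (add_zero 1)
  let Ψ : EtCoh.H (Spec (CommRingCat.of K)) ((EtCoh.push f).obj (injSeq F).X₃) 1 →+ EtCoh.H X F 2 :=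
    (hS.extClass.postcomp (EtCoh.const X ℤ) (rfl : 1 + 1 = 2)).comp
      (EtLim.HofPush f (injSeq F).X₃ 1)
  have hΨ : ∀ ξ, Φ ξ = 0 → Ψ ξ ∈ (EtLim.HofPush f F 2).range := by
    intro ξ hξ
    obtain ⟨η, hη⟩ := exists_HofPush_of_coker f hS ξ hξ
    exact ⟨η, hη⟩
  have hΨx : ∀ e he, Ψ (x e he) = e := hx
  have hb : ∀ b : ρ.range, ∃ e, ρ e = b := fun b => b.2
  choose base hbase using hb
  let d : EtCoh.H X F 2 ⧸ (EtLim.HofPush f F 2).range → EtCoh.H X F 2 := fun q =>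
    q.out - base ⟨ρ q.out, q.out, rfl⟩
  have hd : ∀ q, ρ (d q) = 0 := fun q => by
    change ρ (q.out - _) = 0
    rw [map_sub, hbase, sub_self]
  refine Finite.of_injective (fun q => ((⟨ρ q.out, q.out, rfl⟩ : ρ.range), Φ (x (d q) (hd q)))) ?_
  intro q₁ q₂ h
  have h1 : (⟨ρ q₁.out, q₁.out, rfl⟩ : ρ.range) = ⟨ρ q₂.out, q₂.out, rfl⟩ := congrArg Prod.fst h
  have h2 : Φ (x (d q₁) (hd q₁)) = Φ (x (d q₂) (hd q₂)) := congrArg Prod.snd h
  have h3 : Ψ (x (d q₁) (hd q₁) - x (d q₂) (hd q₂)) ∈ (EtLim.HofPush f F 2).range :=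
    hΨ _ (by rw [map_sub, h2, sub_self])
  rw [map_sub, hΨx, hΨx] at h3
  have h4 : d q₁ - d q₂ = q₁.out - q₂.out := by
    change (q₁.out - base ⟨ρ q₁.out, q₁.out, rfl⟩) - (q₂.out - base ⟨ρ q₂.out, q₂.out, rfl⟩) = _
    rw [h1]
    abel
  rw [h4] at h3
  rw [← QuotientAddGroup.out_eq' q₁, ← QuotientAddGroup.out_eq' q₂]
  apply Eq.symm
  rw [QuotientAddGroup.eq]
  rwa [neg_add_eq_sub]

section Gm

open Groth.Agent.Dix.K282.BrLift (isIso_gmp_fst twistAut_eq)

/-- `H^n(X_Ω, q⁻¹ G_m) ≃ H^n(X_Ω, G_m)`. -/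
theorem nonempty_equiv (n : ℕ) : Nonempty (HT f (EtCoh.Gm X) (xi K Ω) n ≃+
    HH (SGA7.bcField Ω f) (EtCoh.Gm (SGA7.bcField Ω f)) n) := by
  have i1 : Algebra.IsSeparable K Ω := IsSepClosure.separable
  have hiso := isIso_gmp_fst (K := K) (Ω := Ω) f
  exact ⟨AddEquiv.ofBijective (HHmap (gmp (pullback.fst f (xi K Ω))) n)
    (HHmap_bijective (gmp (pullback.fst f (xi K Ω))) n)⟩

/-- **Finiteness of `Br X / Br K`**, with `f_* G_m = G_m` as a hypothesis. -/
theorem finite_quot_of_isIso [∀ ⦃Y Z : Scheme.{u}⦄ (g : Y ⟶ Z), PreservesFiniteLimits (EtCoh.pull g)]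
    (hgm : IsIso (EtLim.GmPush f))
    (hfg : AddGroup.FG (EtCoh.H (SGA7.bcField Ω f) (EtCoh.Gm (SGA7.bcField Ω f)) 1))
    (htf : ∀ (n : ℕ) (x : EtCoh.H (SGA7.bcField Ω f) (EtCoh.Gm (SGA7.bcField Ω f)) 1),
      n • x = 0 → n = 0 ∨ x = 0)
    (hbr : Finite (Dix.brInv Ω f)) :
    Finite (Dix.BrCoh X ⧸ (EtLim.HGmPull f 2).range) := by
  have i1 : Algebra.IsSeparable K Ω := IsSepClosure.separable
  have hiso := isIso_gmp_fst (K := K) (Ω := Ω) f
  obtain ⟨e⟩ := nonempty_equiv (Ω := Ω) f 1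
  have hfg' : AddGroup.FG (HT f (EtCoh.Gm X) (xi K Ω) 1) :=
    AddGroup.fg_of_surjective (f := e.symm.toAddMonoidHom) e.symm.surjective
  have htf' : ∀ (n : ℕ) (x : HT f (EtCoh.Gm X) (xi K Ω) 1), n ≠ 0 → n • x = 0 → x = 0 := by
    intro n x hn hx
    have h1 : n • e x = 0 := by rw [← map_nsmul, hx, map_zero]
    exact e.injective (((htf n (e x) h1).resolve_left hn).trans (map_zero e).symm)
  have hfin := finite_H1_coker f (EtCoh.Gm X) hfg' htf'
  let ρ : EtCoh.H X (EtCoh.Gm X) 2 →+ Dix.BrCoh (SGA7.bcField Ω f) :=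
    EtLim.HGmPull (pullback.fst f (xi K Ω)) 2
  have hle : ρ.range ≤ Dix.brInv Ω f := by
    rintro _ ⟨x, rfl⟩
    rw [Dix.mem_brInv_iff]
    intro σ
    refine K280.GmPullComp.HGmPull_comp (SGA7.twistAut Ω f σ) (pullback.fst f (xi K Ω))
      (pullback.fst f (xi K Ω)) ?_ 2 x
    rw [twistAut_eq]
    exact bm_fst f _ _
  have hρ : Finite ρ.range :=
    Finite.of_injective (AddSubgroup.inclusion hle) (AddSubgroup.inclusion_injective hle)
  have hfin2 := finite_quot_aux (Ω := Ω) f (EtCoh.Gm X) hfin ρ hρ (by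
    intro x hx
    have h1 : HHmap (gmp (pullback.fst f (xi K Ω))) 2 (hp (pullback.fst f (xi K Ω)) _ 2 x) = 0 :=
      (Topos.H571.GmPull.HGmPull_eq (pullback.fst f (xi K Ω)) 2 x).symm.trans hx
    exact (HHmap_bijective (gmp (pullback.fst f (xi K Ω))) 2).1 (h1.trans (map_zero _).symm))
  have heq : (EtLim.HofPush f (EtCoh.Gm X) 2).range = (EtLim.HGmPull f 2).range := by
    apply le_antisymm
    · rintro _ ⟨x, rfl⟩
      obtain ⟨y, hy⟩ := (HHmap_bijective (EtLim.GmPush f) 2).2 x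
      refine ⟨y, ?_⟩
      rw [K280.GmPullComp.HGmPull_def]
      exact congrArg (EtLim.HofPush f (EtCoh.Gm X) 2) hy
    · rintro _ ⟨x, rfl⟩
      exact ⟨_, (K280.GmPullComp.HGmPull_def f 2 x).symm⟩
  rw [heq] at hfin2
  exact hfin2

end Gm

end K90.DixKer
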