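import Groth.Agent.Dix.K281.BrGlue

/-!
# The Leray sequence in degree two

`L ⊣ R` with `L` exact, `0 ⟶ X₁ ⟶ X₂ ⟶ X₃ ⟶ 0` with `X₂` injective.  Classes in `Ext²(L A, X₁)` which die on `L Q`,
`Q ⟶ A` epi, come from `Ext¹(A, R X₃)` (`exists_pre_delta`); such a class is in the image of the edge map
as soon as it vanishes in `Ext¹(A, R¹ X₁)`.
-/

set_option autoImplicit false

universe w w' v v' u u'

open CategoryTheory CategoryTheory.Limits CategoryTheory.Abelian AlgebraicGeometry Opposite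

namespace K90.LerayKer

open Groth.Agent Groth.Agent.EtpbcB.EdgeLemma

section Abstract

variable {C : Type u} [Category.{v} C] [Abelian C] [HasExt.{w} C]
variable {D : Type u'} [Category.{v'} D] [Abelian D] [HasExt.{w'} D]
variable {L : C ⥤ D} {R : D ⥤ C} [L.Additive] [PreservesFiniteLimits L] [PreservesFiniteColimits L]
variable (adj : L ⊣ R)

omit [HasExt.{w} C] [HasExt.{w'} D] [L.Additive] [PreservesFiniteLimits L] [PreservesFiniteColimits L] in
theorem homEquiv_aux {B : C} {N : D} (v : L.obj B ⟶ N) :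
    L.map (adj.homEquiv B N v) ≫ adj.counit.app N = v :=
  (adj.homEquiv_counit (X := B) (Y := N) (g := adj.homEquiv B N v)).symm.trans
    (Equiv.symm_apply_apply _ _)

/-- Classes of degree one which die on `L Q`, `Q → A` epi, are in the image of the edge map. -/
theorem exists_edge_one_eq {A Q : C} (π : Q ⟶ A) [Epi π] {N : D} (u : Ext.{w'} (L.obj A) N 1)
    (hu : (Ext.mk₀ (L.map π)).comp u (zero_add 1) = 0) :
    ∃ x : Ext.{w} A (R.obj N) 1, edge adj A N 1 x = u := by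
  let T := ShortComplex.mk (kernel.ι π) π (kernel.condition π)
  have hT : T.ShortExact := { exact := ShortComplex.exact_of_f_is_kernel _ (kernelIsKernel π) }
  have hT' : (T.map L).ShortExact := hT.map_of_exact L
  obtain ⟨v, rfl⟩ := Ext.contravariant_sequence_exact₃ hT' N u hu (rfl : 1 + 0 = 1)
  obtain ⟨v, rfl⟩ := (Ext.mk₀_bijective _ _).2 v
  have e : L.map (adj.homEquiv (kernel π) N v) ≫ adj.counit.app N = v := homEquiv_aux adj v
  refine ⟨hT.extClass.comp (Ext.mk₀ (adj.homEquiv (kernel π) N v)) (add_zero 1), ?_⟩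
  rw [edge_apply, Ext.mapExactFunctor_comp, Ext.comp_assoc_of_third_deg_zero,
    Ext.mapExactFunctor_extClass, Ext.mapExactFunctor_mk₀, Ext.mk₀_comp_mk₀]
  exact congrArg (fun z => hT'.extClass.comp (Ext.mk₀ z) (add_zero 1)) e

variable [R.Additive] [PreservesFiniteLimits R] {S : ShortComplex D} (hS : S.ShortExact)

omit [R.Additive] [PreservesFiniteLimits R] in
include hS in
theorem exists_pre_delta [Injective S.X₂] {A Q : C} (π : Q ⟶ A) [Epi π]
    (u : Ext.{w'} (L.obj A) S.X₁ 2) (hu : (Ext.mk₀ (L.map π)).comp u (zero_add 2) = 0) :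
    ∃ x : Ext.{w} A (R.obj S.X₃) 1,
      (edge adj A S.X₃ 1 x).comp hS.extClass (rfl : 1 + 1 = 2) = u := by
  obtain ⟨y, rfl⟩ := Ext.covariant_sequence_exact₁ (L.obj A) hS u (Ext.eq_zero_of_injective _)
    (rfl : 1 + 1 = 2)
  have h1 : ((Ext.mk₀ (L.map π)).comp y (zero_add 1)).comp hS.extClass (rfl : 1 + 1 = 2) = 0 := by
    rw [Ext.comp_assoc (h₁₂ := zero_add 1) (h₂₃ := rfl) (h := rfl)]
    exact hu
  obtain ⟨w, hw⟩ := Ext.covariant_sequence_exact₃ (L.obj Q) hS _ rfl h1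
  have hw0 : w = 0 := Ext.eq_zero_of_injective w
  obtain ⟨x, hx⟩ := exists_edge_one_eq (R := R) adj π y (by rw [← hw, hw0, Ext.zero_comp])
  exact ⟨x, by rw [hx]⟩

include hS in
theorem exists_edge_of_coker {A : C} (x : Ext.{w} A (R.obj S.X₃) 1)
    (hx : x.comp (Ext.mk₀ (cokernel.π (kap R S))) (add_zero 1) = 0) :
    ∃ y : Ext.{w} A (R.obj S.X₁) 2,
      edge adj A S.X₁ 2 y = (edge adj A S.X₃ 1 x).comp hS.extClass (rfl : 1 + 1 = 2) := by
  obtain ⟨e, he⟩ := Ext.covariant_sequence_exact₂ A (shortExact_K (R := R) hS) x hx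
  exact ⟨e.comp (shortExact_T (R := R) hS).extClass rfl, by rw [edge_delta adj hS A 1, he]⟩

end Abstract

section Etale

open Groth.Agent.Etcore.EtZ Groth.Agent.Etcore.EtZPull Groth.Agent.Etcore.LimEt
open Groth.Agent.CurvesA Groth.Agent.Etcore.PullCoh Groth.Agent.EtpbcB K281.BrGlue

variable {X Y : Scheme.{u}} (f : X ⟶ Y)

/-- The free sheaf on a covering maps onto the constant sheaf. -/
theorem epi_one (V : Y.Etale) (hV : Function.Surjective V.hom) :
    Epi ((Z Y).map ((EtCore.topIsTerminal Y).from V) ≫ (κ Y).hom) :=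
  Preadditive.epi_of_cancel_zero _ fun {B} g hg =>
    joint_epi (fun _ : PUnit.{1} => V) (fun x => ⟨PUnit.unit, hV x⟩) B g (fun _ => hg)

variable [PreservesFiniteLimits (EtCoh.pull f)] {S : ShortComplex (EtCoh.Ab X)} (hS : S.ShortExact)

/-- A class of degree two which dies on a covering comes from `H¹(Y, f_* S.X₃)`. -/
theorem exists_delta_eq [Injective S.X₂] (e : EtCoh.H X S.X₁ 2) (V : Y.Etale)
    (hV : Function.Surjective V.hom)
    [PreservesFiniteLimits (EtCoh.pull ((EtCoh.bc f).obj V).hom)]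
    (hVe : EtCore.Hpull ((EtCoh.bc f).obj V).hom S.X₁ 2 e = 0) :
    ∃ ξ : EtCoh.H Y ((EtCoh.push f).obj S.X₃) 1,
      (EtLim.HofPush f S.X₃ 1 ξ : Ext (EtCoh.const X ℤ) S.X₃ 1).comp hS.extClass (rfl : 1 + 1 = 2) = e := by
  obtain ⟨u, hu⟩ := (EdgeEt.bij_aux f S.X₁ 2).2 e
  change (Ext.mk₀ (EtCore.pullConst f ℤ).inv).comp u (zero_add 2) = e at hu
  have hu' : u = (Ext.mk₀ (EtCore.pullConst f ℤ).hom).comp e (zero_add 2) := by
    rw [← hu, Ext.mk₀_comp_mk₀_assoc, Iso.hom_inv_id, Ext.mk₀_id_comp]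
  have := epi_one V hV
  have i2 : EtShriek.JCont ((EtCoh.bc f).obj V).hom := by
    have : Etale ((EtCoh.bc f).obj V).hom := ((EtCoh.bc f).obj V).prop
    exact Groth.Agent.Sga4h.EtaleRes.jCont _
  have h1 := mapExact_eq_zero (g := ((EtCoh.bc f).obj V).hom) hVe
  have h2 : u.mapExactFunctor (EtCoh.pull ((EtCoh.bc f).obj V).hom) = 0 := by
    rw [hu', Ext.mapExactFunctor_comp, h1, Ext.comp_zero]
  let y : Ext ((Z X).obj ((EtCoh.bc f).obj (EtCoh.top Y))) S.X₁ 2 :=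
    (Ext.mk₀ (pullInv f (EtCoh.top Y) ≫ (EtCoh.pull f).map (κ Y).hom)).comp u (zero_add 2)
  have h3 : y.mapExactFunctor (EtCoh.pull ((EtCoh.bc f).obj V).hom) = 0 := by
    rw [Ext.mapExactFunctor_comp, h2, Ext.comp_zero]
  have h4 := K445.EtRes.res_eq_zero_of_mapExact ((EtCoh.bc f).obj V)
    ((EtCoh.bc f).map ((EtCore.topIsTerminal Y).from V)) y h3
  rw [ExtStep.res_apply, Ext.mk₀_comp_mk₀_assoc] at h4
  have h5 : (EtCoh.pull f).map ((Z Y).map ((EtCore.topIsTerminal Y).from V) ≫ (κ Y).hom) =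
      pullHom f V ≫ ((Z X).map ((EtCoh.bc f).map ((EtCore.topIsTerminal Y).from V)) ≫
        pullInv f (EtCoh.top Y) ≫ (EtCoh.pull f).map (κ Y).hom) := by
    rw [← Category.assoc (pullHom f V), ← pull_map_Z, Category.assoc,
      ← Category.assoc (pullHom f (EtCoh.top Y)), pullHom_pullInv, Category.id_comp, Functor.map_comp]
  obtain ⟨ξ, hξ⟩ := exists_pre_delta (EtCoh.pullPushAdj f) hS
    (A := EtCoh.const Y ℤ) ((Z Y).map ((EtCore.topIsTerminal Y).from V) ≫ (κ Y).hom) u (by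
      rw [h5, ← Ext.mk₀_comp_mk₀_assoc]
      refine (congrArg (fun z => (Ext.mk₀ (pullHom f V)).comp z (zero_add 2)) h4).trans ?_
      exact Ext.comp_zero _ _ _ _ _)
  refine ⟨ξ, ?_⟩
  have h6 : EtLim.HofPush f S.X₃ 1 ξ = EdgeEt.edgeH f S.X₃ 1 ξ := rfl
  rw [h6, EdgeEt.edgeH_eq]
  refine Eq.trans ?_ hu
  rw [← hξ]
  exact Ext.comp_assoc (Ext.mk₀ (EtCore.pullConst f ℤ).inv) _ _ (zero_add 1) rfl (zero_add 2)

include hS in
/-- Classes from the kernel of `H¹(Y, f_* S.X₃) ⟶ H¹(Y, R¹ f_* S.X₁)` are in the image of the edge map. -/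
theorem exists_HofPush_of_coker (ξ : EtCoh.H Y ((EtCoh.push f).obj S.X₃) 1)
    (hξ : (ξ : Ext (EtCoh.const Y ℤ) _ 1).comp
      (Ext.mk₀ (cokernel.π (kap (EtCoh.push f) S))) (add_zero 1) = 0) :
    ∃ η : EtCoh.H Y ((EtCoh.push f).obj S.X₁) 2, EtLim.HofPush f S.X₁ 2 η =
      (EtLim.HofPush f S.X₃ 1 ξ : Ext (EtCoh.const X ℤ) S.X₃ 1).comp hS.extClass (rfl : 1 + 1 = 2) := by
  obtain ⟨η, hη⟩ := exists_edge_of_coker (EtCoh.pullPushAdj f) hS (A := EtCoh.const Y ℤ) ξ hξ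
  refine ⟨η, ?_⟩
  have h6 : EtLim.HofPush f S.X₁ 2 η = EdgeEt.edgeH f S.X₁ 2 η := rfl
  have h7 : EtLim.HofPush f S.X₃ 1 ξ = EdgeEt.edgeH f S.X₃ 1 ξ := rfl
  rw [h6, h7, EdgeEt.edgeH_eq, EdgeEt.edgeH_eq, hη]
  exact (Ext.comp_assoc (Ext.mk₀ (EtCore.pullConst f ℤ).inv) _ _ (zero_add 1) rfl (zero_add 2)).symm

end Etale

end K90.LerayKer
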